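import Cfsg.Agent.H425.KKL.SevenTor
import Cfsg.Agent.H613.KKL.Defs

/-!
# S4546, E7, part 3 (helper425)

`seven_no` : `D ≤ E₇(q)` of order 8 which is conjugate to `{1} ∪ {h_a(-1) : a ∈ FE7}`, `q` odd: there is no
character `θ` with `CfgB D x θ`.
-/

set_option autoImplicit false
set_option linter.unusedSectionVars false

namespace Cfsg.Agent.H425.KKL

open Subgroup Cfsg Cfsg.Lie Cfsg.Lie.ChevalleyDatum Cfsg.Agent.ChevalleyStructure
  Cfsg.Agent.ChevalleyStructure.Elts Cfsg.Agent.ChevalleyStructure.NPerm Cfsg.Agent.ChevalleyStructure.CoxeterGeom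
  Cfsg.Agent.ChevalleyStructure.CoxeterGeomTypes
  Cfsg.Agent.ChevalleyStructure.RootVec
  Cfsg.Agent.Nodes.RGDChev Cfsg.Agent.H412.OT Cfsg.Agent.H3.OT Cfsg.Agent.Nodes.Reps
open Cfsg.Agent.H808.RV
open Cfsg.Agent.H613.KKL

universe u

section Basic

variable {K : Type u} [Field K]

theorem neg_one_sq : (-1 : Matrix.SpecialLinearGroup (Fin 2) K) * -1 = 1 := by
  apply Subtype.ext
  simp

theorem neg_one_comm (A : Matrix.SpecialLinearGroup (Fin 2) K) : -1 * A = A * -1 := by
  apply Subtype.ext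
  simp

theorem tw_neg_one (δ : GL (Fin 2) K) : tw δ (-1) = -1 := by
  apply tw_of_not_NS
  unfold Cfsg.Agent.H984.SLTwo.NS
  simp

/-- the involutions are different -/
theorem hG_ne (h2 : (2 : K) ≠ 0) {i j : Fin 7} (h : i ≠ j) :
    hG e7T.inList (fr i) (-1 : K) ≠ hG e7T.inList (fr j) (-1 : K) := by
  intro he
  obtain ⟨k, hk⟩ := tabN_spec e7T tabN_E7 (fr_mem i) (fr_mem j) fun e => h (fr_inj i j e)
  refine zP_ne_one (K := K) e7T h2 (I := [fr i, fr j]) ?_ hk ?_
  · intro a ha
    simp only [List.mem_cons, List.not_mem_nil, or_false] at ha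
    rcases ha with h' | h' <;> rw [h'] <;> exact fr_lt _
  · have h6 : zP e7T.inList K [fr i, fr j] = hG e7T.inList (fr i) (-1 : K) * hG e7T.inList (fr j) (-1 : K) := by
      unfold zP
      rw [List.map_cons, List.map_cons, List.map_nil, List.prod_cons, List.prod_cons, List.prod_nil, mul_one]
    rw [h6, ← he, ← Ps_neg_one, ← map_mul, neg_one_sq, map_one]

theorem hG_ne_one (h2 : (2 : K) ≠ 0) (i : Fin 7) : hG e7T.inList (fr i) (-1 : K) ≠ 1 := by
  intro he
  obtain ⟨k, hk⟩ := tabZ_spec e7T tabZ_E7 (fr_mem i)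
  have h8 := chi_hG e7T.inList (fr_lt i) (simple_lt e7T.inList (lt_rank e7T k)) (c := (-1 : K))
    (neg_ne_zero.2 one_ne_zero)
  rw [he, chi_one] at h8
  exact hk (neg_one_zpow_eq h2 h8.symm)

/-- the torus commutes with the involutions -/
theorem tor_comm_hG {t : GL chevE7.Idx K} (ht : t ∈ chevE7.diagonalSubgroup K) (i : Fin 7) :
    t * hG e7T.inList (fr i) (-1 : K) = hG e7T.inList (fr i) (-1 : K) * t := by
  rw [← Ps_neg_one, ← mul_inv_eq_iff_eq_mul, tor_conj ht, tw_neg_one]

theorem Ps_comm_hG (i j : Fin 7) (A : Matrix.SpecialLinearGroup (Fin 2) K) :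
    Ps K i A * hG e7T.inList (fr j) (-1 : K) = hG e7T.inList (fr j) (-1 : K) * Ps K i A := by
  rw [← Ps_neg_one]
  by_cases h : i = j
  · subst h
    rw [← map_mul, ← map_mul, neg_one_comm]
  · exact Ps_comm h A _

end Basic

section Main

variable {K : Type u} [Field K] [Fintype K]

/-- **E7, part 3** -/
theorem seven_no (h2 : (2 : K) ≠ 0) {D : Subgroup ↥(chevE7.group K)} {x : ↥(chevE7.group K)}
    {θ : IrrCharacter ↥(centralizer (D : Set ↥(chevE7.group K)))}
    (hg : ∃ g : ↥(chevE7.group K), ∀ r ∈ FE7, ∃ z ∈ D,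
      ((g * z * g⁻¹ : ↥(chevE7.group K)) : GL chevE7.Idx K) = hG e7T.inList r (-1 : K)) : ¬ CfgB D x θ := by
  classical
  intro hc
  obtain ⟨g, hg⟩ := hg
  have hz : ∀ i : Fin 7, ∃ z ∈ D, ((g * z * g⁻¹ : ↥(chevE7.group K)) : GL chevE7.Idx K) =
      hG e7T.inList (fr i) (-1 : K) := fun i => hg _ (fr_mem i)
  choose z hzD hz using hz
  -- the elements of `D`
  have hD8 : Nat.card ↥D = 8 := hc.e8.card
  have hfinD : Finite ↥D := Nat.finite_of_card_ne_zero (by rw [hD8]; norm_num)
  let e : Option (Fin 7) → ↥D := fun o => match o with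
    | none => 1
    | some i => ⟨z i, hzD i⟩
  have he_inj : Function.Injective e := by
    rintro (_ | i) (_ | j) h
    · rfl
    · exfalso
      have h1 : (1 : ↥(chevE7.group K)) = z j := congrArg Subtype.val h
      have h3 := hz j
      rw [← h1] at h3
      apply hG_ne_one h2 j
      rw [← h3]; simp
    · exfalso
      have h1 : z i = (1 : ↥(chevE7.group K)) := congrArg Subtype.val h
      have h3 := hz i
      rw [h1] at h3
      apply hG_ne_one h2 i
      rw [← h3]; simp
    · by_contra hne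
      have hij : i ≠ j := fun h => hne (by rw [h])
      have h1 : z i = z j := congrArg Subtype.val h
      apply hG_ne h2 hij
      rw [← hz i, ← hz j, h1]
  have he_bij : Function.Bijective e := by
    rw [Nat.bijective_iff_injective_and_card]
    refine ⟨he_inj, ?_⟩
    rw [hD8, Nat.card_eq_fintype_card]
    rfl
  have hDcases : ∀ d ∈ D, d = 1 ∨ ∃ i, d = z i := by
    intro d hd
    obtain ⟨o, ho⟩ := he_bij.2 ⟨d, hd⟩
    rcases o with _ | i
    · exact Or.inl (congrArg Subtype.val ho).symm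
    · exact Or.inr ⟨i, (congrArg Subtype.val ho).symm⟩
  -- the homomorphism to `GL`
  let C : Subgroup ↥(chevE7.group K) := centralizer (D : Set ↥(chevE7.group K))
  let f : ↥C →* GL chevE7.Idx K :=
    ((chevE7.group K).subtype.comp (MulAut.conj g).toMonoidHom).comp C.subtype
  have hf : ∀ c : ↥C, f c = (g : GL chevE7.Idx K) * ((c : ↥(chevE7.group K)) : GL chevE7.Idx K) *
      (g : GL chevE7.Idx K)⁻¹ := fun c => rfl
  have hfinj : Function.Injective f := by
    intro c c' h
    have h1 : (MulAut.conj g) (c : ↥(chevE7.group K)) = (MulAut.conj g) (c' : ↥(chevE7.group K)) := Subtype.ext h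
    exact Subtype.ext ((MulAut.conj g).injective h1)
  -- elements of `C`
  have hmem : ∀ y : ↥(chevE7.group K), (∀ i, (y : GL chevE7.Idx K) * hG e7T.inList (fr i) (-1 : K) =
      hG e7T.inList (fr i) (-1 : K) * (y : GL chevE7.Idx K)) → g⁻¹ * y * g ∈ C := by
    intro y hy
    rw [mem_centralizer_iff]
    intro d hd
    rcases hDcases d hd with rfl | ⟨i, rfl⟩
    · group
    · have h1 : y * (g * z i * g⁻¹) = g * z i * g⁻¹ * y := by
        apply Subtype.ext
        show (y : GL chevE7.Idx K) * ((g * z i * g⁻¹ : ↥(chevE7.group K)) : GL chevE7.Idx K) =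
          ((g * z i * g⁻¹ : ↥(chevE7.group K)) : GL chevE7.Idx K) * (y : GL chevE7.Idx K)
        rw [hz i]
        exact hy i
      calc z i * (g⁻¹ * y * g) = g⁻¹ * (g * z i * g⁻¹ * y) * g := by group
        _ = g⁻¹ * (y * (g * z i * g⁻¹)) * g := by rw [h1]
        _ = g⁻¹ * y * g * z i := by group
  have hcomm' : ∀ c : ↥C, ∀ i, f c * hG e7T.inList (fr i) (-1 : K) = hG e7T.inList (fr i) (-1 : K) * f c := by
    intro c i
    have h1 : z i * (c : ↥(chevE7.group K)) = (c : ↥(chevE7.group K)) * z i := mem_centralizer_iff.1 c.2 _ (hzD i)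
    rw [← hz i]
    show ((g * (c : ↥(chevE7.group K)) * g⁻¹ * (g * z i * g⁻¹) : ↥(chevE7.group K)) : GL chevE7.Idx K) =
      ((g * z i * g⁻¹ * (g * (c : ↥(chevE7.group K)) * g⁻¹) : ↥(chevE7.group K)) : GL chevE7.Idx K)
    congr 1
    calc g * (c : ↥(chevE7.group K)) * g⁻¹ * (g * z i * g⁻¹) = g * ((c : ↥(chevE7.group K)) * z i) * g⁻¹ := by group
      _ = g * (z i * (c : ↥(chevE7.group K))) * g⁻¹ := by rw [h1]
      _ = _ := by group
  have hfYT : ∀ c : ↥C, f c ∈ YT K := fun c =>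
    cent_mem h2 (g := f c) (by
      show ((g * (c : ↥(chevE7.group K)) * g⁻¹ : ↥(chevE7.group K)) : GL chevE7.Idx K) ∈ chevE7.group K
      exact Subtype.prop _) (hcomm' c)
  -- the homomorphisms
  have hPC : ∀ (i : Fin 7) (A : Matrix.SpecialLinearGroup (Fin 2) K),
      (MulAut.conj g⁻¹) (⟨Ps K i A, Ps_mem i A⟩ : ↥(chevE7.group K)) ∈ C := by
    intro i A
    have h1 := hmem ⟨Ps K i A, Ps_mem i A⟩ fun j => Ps_comm_hG i j A
    rw [MulAut.conj_apply, inv_inv]
    exact h1
  let φ : Fin 7 → Matrix.SpecialLinearGroup (Fin 2) K →* ↥C := fun i =>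
    ((MulAut.conj g⁻¹).toMonoidHom.comp ((Ps K i).codRestrict (chevE7.group K) (Ps_mem i))).codRestrict C
      (hPC i)
  have hfφ : ∀ i A, f (φ i A) = Ps K i A := by
    intro i A
    rw [hf]
    show (g : GL chevE7.Idx K) * (((g⁻¹ : ↥(chevE7.group K)) : GL chevE7.Idx K) * Ps K i A *
      (((g⁻¹ : ↥(chevE7.group K))⁻¹ : ↥(chevE7.group K)) : GL chevE7.Idx K)) * (g : GL chevE7.Idx K)⁻¹ = Ps K i A
    rw [inv_inv, Subgroup.coe_inv]
    group
  have hφcomm : Pairwise fun i j : Fin 7 => ∀ a b : Matrix.SpecialLinearGroup (Fin 2) K,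
      Commute (φ i a) (φ j b) := by
    intro i j hij a b
    apply hfinj
    rw [map_mul, map_mul, hfφ, hfφ]
    exact Ps_comm hij a b
  have hφinj : ∀ i, Function.Injective (φ i) := by
    intro i a b h
    apply Ps_inj h2 i
    rw [← hfφ, ← hfφ, h]
  have hφcl : 8 ≤ Nat.card ↥(closure (Set.range fun i => φ i (-1))) := by
    let e' : Option (Fin 7) → ↥(closure (Set.range fun i => φ i (-1))) := fun o => match o with
      | none => 1
      | some i => ⟨φ i (-1), subset_closure ⟨i, rfl⟩⟩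
    have he' : Function.Injective e' := by
      rintro (_ | i) (_ | j) h
      · rfl
      · exfalso
        have h1 : (1 : ↥C) = φ j (-1) := congrArg Subtype.val h
        apply hG_ne_one h2 j
        rw [← Ps_neg_one, ← hfφ, ← h1, map_one]
      · exfalso
        have h1 : φ i (-1) = (1 : ↥C) := congrArg Subtype.val h
        apply hG_ne_one h2 i
        rw [← Ps_neg_one, ← hfφ, h1, map_one]
      · by_contra hne
        have hij : i ≠ j := fun h => hne (by rw [h])
        have h1 : φ i (-1) = φ j (-1) := congrArg Subtype.val h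
        apply hG_ne h2 hij
        rw [← Ps_neg_one, ← Ps_neg_one, ← hfφ, ← hfφ, h1]
    have h3 := Nat.card_le_card_of_injective _ he'
    rw [Nat.card_eq_fintype_card] at h3
    exact h3
  have hφconj : ∀ (c : ↥C) (i : Fin 7), ∃ δ : GL (Fin 2) K, ∀ a, c * φ i a * c⁻¹ = φ i (tw δ a) := by
    intro c i
    obtain ⟨δ, hδ⟩ := tw_YT (hfYT c) i
    refine ⟨δ, fun a => hfinj ?_⟩
    rw [map_mul, map_mul, map_inv, hfφ, hfφ, hδ]
  -- the image of the product
  have hYG : (cp φ hφcomm).range.map f = YG K := by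
    rw [cp_range, Subgroup.map_iSup]
    unfold YG
    refine iSup_congr fun i => ?_
    rw [MonoidHom.map_range]
    congr 1
    ext1 A
    exact hfφ i A
  have hmemY : ∀ c : ↥C, f c ∈ YG K ↔ c ∈ (cp φ hφcomm).range := by
    intro c
    rw [← hYG]
    constructor
    · rintro ⟨c', hc', h⟩
      rw [← hfinj h]; exact hc'
    · exact fun h => ⟨c, h, rfl⟩
  have hirr : IsIrrCharacter ↥C (θ : ↥C → ℂ) := θ.2
  have hθ1 : (θ : ↥C → ℂ) 1 = ((charDegree (θ : ↥C → ℂ) : ℕ) : ℂ) :=
    Cfsg.Agent.Blocks.Basic.irr_one_eq_charDegree hirr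
  have hzero : (charDegree (θ : ↥C → ℂ)).factorization 2 + 3 = (Nat.card ↥C).factorization 2 := hc.zero
  have hfinC : Finite ↥C := inferInstance
  have h7 : Fintype.card (Fin 7) = 7 := Fintype.card_fin 7
  have hpow : ∀ c : ↥C, ∃ k : ℕ, c ^ 2 ^ k ∈ (cp φ hφcomm).range := by
    intro c
    refine ⟨1, ?_⟩
    rw [← hmemY, pow_one, sq, map_mul]
    exact sq_YT (hfYT c)
  have hne : (cp φ hφcomm).range ≠ ⊤ := by
    intro htop
    obtain ⟨t, ht, htY⟩ := exists_tor (K := K) h2
    obtain ⟨tt, htt⟩ : ∃ tt : ↥(chevE7.group K), (tt : GL chevE7.Idx K) = t :=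
      ⟨⟨t, diagonal_le_group e7T.inList K ht⟩, rfl⟩
    have h1 : g⁻¹ * tt * g ∈ C := hmem tt fun i => by rw [htt]; exact tor_comm_hG ht i
    apply htY
    have h3 : f (⟨g⁻¹ * tt * g, h1⟩ : ↥C) = t := by
      rw [hf]
      have h4 : ((g * (g⁻¹ * tt * g) * g⁻¹ : ↥(chevE7.group K)) : GL chevE7.Idx K) = t := by
        rw [← htt]
        congr 1
        group
      exact h4
    rw [← h3, hmemY, htop]
    exact mem_top _
  exact abs_main φ hφcomm (ringChar_ne h2) h7 hφinj hφcl hφconj hpow hne hirr hθ1 hzero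

end Main

end Cfsg.Agent.H425.KKL
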