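import Cfsg.Agent.H425.KKL.SLInv
import Cfsg.Agent.H681.DegBasic
import Cfsg.Agent.H624.MGroupA
import Cfsg.Agent.CharactersDeep.CliffordSum

/-!
# S4546, E7: central products of seven `SL₂(q)` (helper425)

`abs_main` : `C` finite, `Y` a central product of seven groups `SL₂(q)` (`q` odd) with centre of order 8 generated by
the seven involutions, `C` induces automorphisms of `GL₂(q)` on the factors, `C/Y ≠ 1` is a 2-group: there is no
irreducible character `θ` of `C` with `v₂(θ(1)) + 3 = v₂(|C|)`.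
-/

set_option autoImplicit false
set_option linter.unusedSectionVars false

namespace Cfsg.Agent.H425.KKL

open Matrix Subgroup Cfsg Cfsg.Agent.H984.SLTwo Cfsg.Agent.Characters.Core

universe u v w

variable {F : Type v} [Field F]

local notation "SL" => Matrix.SpecialLinearGroup (Fin 2) F
local notation "M₂" => Matrix (Fin 2) (Fin 2) F

theorem fac_le {n k : ℕ} (hn : n ≠ 0) (h : n ≤ 2 ^ k) : n.factorization 2 ≤ k := by
  have h1 : 2 ^ n.factorization 2 ≤ n := Nat.ordProj_le 2 hn
  exact (Nat.pow_le_pow_iff_right (by norm_num)).1 (h1.trans h)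

theorem sum_subgroup_le {C : Type u} [Group C] [Fintype C] (Y : Subgroup C) [Fintype ↥Y] (f : C → ℝ)
    (hf : ∀ g, 0 ≤ f g) : ∑ y : ↥Y, f y ≤ ∑ g, f g := by
  have h1 : ∑ y : ↥Y, f y = ∑ g ∈ Finset.univ.map (Function.Embedding.subtype fun g : C => g ∈ Y), f g := by
    rw [Finset.sum_map]; rfl
  rw [h1]
  exact Finset.sum_le_sum_of_subset_of_nonneg (Finset.subset_univ _) fun _ _ _ => hf _

section Prod

variable {ι : Type w} [Fintype ι] [DecidableEq ι] {C : Type u} [Group C] (φ : ι → Matrix.SpecialLinearGroup (Fin 2) F →* C)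
  (hcomm : Pairwise fun i j => ∀ a b, Commute (φ i a) (φ j b))

/-- the product of the commuting homomorphisms -/
def cp : (ι → SL) →* C := MonoidHom.noncommPiCoprod φ hcomm

theorem cp_single (i : ι) (x : SL) : cp φ hcomm (Pi.mulSingle i x) = φ i x :=
  MonoidHom.noncommPiCoprod_mulSingle φ i x

theorem cp_range : (cp φ hcomm).range = ⨆ i, (φ i).range :=
  MonoidHom.noncommPiCoprod_range (hcomm := hcomm)

/-- the conjugation with an element acting on the factors -/
theorem conj_prod {c : C} {δ : ι → GL (Fin 2) F} (hδ : ∀ i a, c * φ i a * c⁻¹ = φ i (tw (δ i) a)) (a : ι → SL) :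
    c * cp φ hcomm a * c⁻¹ =
      cp φ hcomm (fun i => tw (δ i) (a i)) := by
  let T : (ι → SL) →* (ι → SL) :=
    { toFun := fun a i => tw (δ i) (a i)
      map_one' := by funext i; exact map_one _
      map_mul' := fun a b => by funext i; exact map_mul _ _ _ }
  have h : (MulAut.conj c).toMonoidHom.comp (cp φ hcomm) =
      (cp φ hcomm).comp T := by
    refine MonoidHom.pi_ext fun i x => ?_
    have h1 : T (Pi.mulSingle i x) = Pi.mulSingle i (tw (δ i) x) := by
      funext j
      show tw (δ j) ((Pi.mulSingle i x : ι → SL) j) = (Pi.mulSingle i (tw (δ i) x) : ι → SL) j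
      by_cases hij : j = i
      · subst hij
        rw [Pi.mulSingle_eq_same (M := fun _ : ι => SL) j x,
          Pi.mulSingle_eq_same (M := fun _ : ι => SL) j (tw (δ j) x)]
      · rw [Pi.mulSingle_eq_of_ne (M := fun _ : ι => SL) hij x,
          Pi.mulSingle_eq_of_ne (M := fun _ : ι => SL) hij (tw (δ i) x), map_one]
    show c * cp φ hcomm (Pi.mulSingle i x) * c⁻¹ = cp φ hcomm (T (Pi.mulSingle i x))
    rw [h1, cp_single, cp_single, ← hδ]
  exact DFunLike.congr_fun h a

/-- the kernel consists of central elements -/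
theorem ker_central (hinj : ∀ i, Function.Injective (φ i)) {a : ι → SL}
    (ha : cp φ hcomm a = 1) (i : ι) : a i ∈ center SL := by
  rw [mem_center_iff]
  intro x
  have h1 : a * Pi.mulSingle i x * a⁻¹ * (Pi.mulSingle i x)⁻¹ = Pi.mulSingle i (a i * x * (a i)⁻¹ * x⁻¹) := by
    funext j
    by_cases hij : j = i
    · subst hij
      simp
    · simp [Pi.mulSingle_eq_of_ne hij]
  have h2 := congrArg (cp φ hcomm) h1
  rw [map_mul, map_mul, map_mul, map_inv, map_inv, ha, cp_single, cp_single, one_mul, inv_one, mul_one, mul_inv_cancel] at h2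
  have h3 := hinj i (h2.symm.trans (map_one _).symm)
  have h4 := mul_inv_eq_one.1 h3
  exact (mul_inv_eq_iff_eq_mul.1 h4).symm

end Prod

variable [Fintype F] [DecidableEq F]

theorem neg_one_eq : (-1 : SL) = upp (-1) 0 := by
  apply Subtype.ext
  rw [coe_upp]
  ext i j
  fin_cases i <;> fin_cases j <;> simp [Matrix.SpecialLinearGroup.coe_neg]

theorem center_cases {z : SL} (hz : z ∈ center SL) : z = 1 ∨ z = -1 := by
  have h1 : ¬ NS (z : M₂) := by
    rw [Matrix.SpecialLinearGroup.mem_center_iff] at hz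
    obtain ⟨r, _, hr⟩ := hz
    rw [← hr]
    unfold NS
    simp
  rcases scalar_cases h1 with h | h
  · left; rw [h, upp_one_zero]
  · right; rw [h, neg_one_eq]

theorem fac_card_SL (h2 : ringChar F ≠ 2) {m : ℕ} (hm : Fintype.card F = 2 * m + 1) :
    (Nat.card SL).factorization 2 = (m * (m + 1)).factorization 2 + 2 := by
  have hm0 : m ≠ 0 := by
    have := two_le_card (F := F)
    omega
  have e : Nat.card SL = (2 * m + 1) * (2 ^ 2 * (m * (m + 1))) := by
    rw [card_SL, hm]
    have : (2 * m + 1) ^ 2 - 1 = 2 ^ 2 * (m * (m + 1)) := by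
      have : (2 * m + 1) ^ 2 = 2 ^ 2 * (m * (m + 1)) + 1 := by ring
      omega
    rw [this]
  have h3 : m * (m + 1) ≠ 0 := Nat.mul_ne_zero hm0 (Nat.succ_ne_zero m)
  have h4 : (2 * m + 1).factorization 2 = 0 := Nat.factorization_eq_zero_of_not_dvd (by omega)
  rw [e, Nat.factorization_mul (by omega) (by positivity), Nat.factorization_mul (by norm_num) h3, Finsupp.add_apply,
    Finsupp.add_apply, h4, Nat.factorization_pow, Finsupp.smul_apply, Nat.Prime.factorization_self Nat.prime_two]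
  simp
  ring

section Main

variable {ι : Type w} [Fintype ι] [DecidableEq ι] {C : Type u} [Group C] [Finite C] (φ : ι → Matrix.SpecialLinearGroup (Fin 2) F →* C)
  (hcomm : Pairwise fun i j => ∀ a b, Commute (φ i a) (φ j b))

/-- the kernel is small -/
theorem card_ker_le (hι : Fintype.card ι = 7) (hinj : ∀ i, Function.Injective (φ i))
    (hcl : 8 ≤ Nat.card ↥(closure (Set.range fun i => φ i (-1)))) :
    Nat.card ↥(cp φ hcomm).ker ≤ 2 ^ 4 := by
  set Φ := cp φ hcomm with hΦ
  let Z : Subgroup (ι → SL) := Subgroup.pi Set.univ fun _ => zpowers (-1 : SL)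
  have hnn : (-1 : SL) * (-1) = 1 := by simp
  have hZ2 : Nat.card ↥(zpowers (-1 : SL)) ≤ 2 := by
    rw [Nat.card_zpowers]
    exact orderOf_le_of_pow_eq_one two_pos (by rw [sq, hnn])
  have hZ : Nat.card ↥Z ≤ 2 ^ 7 := by
    have h1 : Function.Injective (fun (z : ↥Z) (i : ι) => (⟨(z : ι → SL) i, z.2 i (Set.mem_univ i)⟩ : ↥(zpowers (-1 : SL)))) := by
      intro z z' h
      apply Subtype.ext
      funext i
      exact congrArg Subtype.val (congrFun h i)
    have h3 := Nat.card_le_card_of_injective _ h1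
    rw [Nat.card_pi] at h3
    calc Nat.card ↥Z ≤ ∏ _i : ι, Nat.card ↥(zpowers (-1 : SL)) := h3
      _ = Nat.card ↥(zpowers (-1 : SL)) ^ 7 := by rw [Finset.prod_const, Finset.card_univ, hι]
      _ ≤ 2 ^ 7 := Nat.pow_le_pow_left hZ2 7
  -- the kernel lies in `Z`
  have hker : Φ.ker ≤ Z := by
    intro a ha
    rw [Subgroup.mem_pi]
    intro i _
    rcases center_cases (ker_central φ hcomm hinj (MonoidHom.mem_ker.1 ha) i) with h | h
    · rw [h]; exact one_mem _
    · rw [h]; exact mem_zpowers _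
  have himg : closure (Set.range fun i => φ i (-1)) ≤ Z.map Φ := by
    rw [closure_le]
    rintro _ ⟨i, rfl⟩
    refine ⟨Pi.mulSingle i (-1), ?_, cp_single φ hcomm i _⟩
    rw [SetLike.mem_coe, Subgroup.mem_pi]
    intro j _
    by_cases hij : j = i
    · subst hij; rw [Pi.mulSingle_eq_same]; exact mem_zpowers _
    · rw [Pi.mulSingle_eq_of_ne hij]; exact one_mem _
  have h8 : 8 ≤ Nat.card ↥(Z.map Φ) := hcl.trans (Nat.card_le_card_of_injective _ (inclusion_injective himg))
  have h9 : Nat.card ↥(Z.map Φ) * Nat.card ↥Φ.ker = Nat.card ↥Z := by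
    have h10 : Nat.card ↥(Z.map Φ) = (Φ.ker.subgroupOf Z).index := by
      have e1 : (Φ.comp Z.subtype).ker = Φ.ker.subgroupOf Z := by
        ext x; rfl
      have e2 : (Φ.comp Z.subtype).range = Z.map Φ := by
        rw [← MonoidHom.map_range, Subgroup.range_subtype]
      rw [← e2, ← e1, Subgroup.index_ker]
    have h11 : Nat.card ↥(Φ.ker.subgroupOf Z) = Nat.card ↥Φ.ker :=
      Nat.card_congr (subgroupOfEquivOfLe hker).toEquiv
    rw [h10, ← h11]
    exact Subgroup.index_mul_card _
  by_contra hlt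
  push Not at hlt
  have : 8 * (2 ^ 4 + 1) ≤ 2 ^ 7 := by
    calc 8 * (2 ^ 4 + 1) ≤ Nat.card ↥(Z.map Φ) * Nat.card ↥Φ.ker := Nat.mul_le_mul h8 hlt
      _ = Nat.card ↥Z := h9
      _ ≤ 2 ^ 7 := hZ
  omega

/-- **Main theorem** -/
theorem abs_main (h2 : ringChar F ≠ 2) (hι : Fintype.card ι = 7) (hinj : ∀ i, Function.Injective (φ i))
    (hcl : 8 ≤ Nat.card ↥(closure (Set.range fun i => φ i (-1))))
    (hconj : ∀ (c : C) (i : ι), ∃ δ : GL (Fin 2) F, ∀ a, c * φ i a * c⁻¹ = φ i (tw δ a))
    (hpow : ∀ c : C, ∃ k : ℕ, c ^ 2 ^ k ∈ (cp φ hcomm).range)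
    (hne : (cp φ hcomm).range ≠ ⊤)
    {θ : C → ℂ} (hθ : IsIrrCharacter C θ) {n : ℕ} (hn : θ 1 = n)
    (hz : n.factorization 2 + 3 = (Nat.card C).factorization 2) : False := by
  classical
  have := Fintype.ofFinite C
  set Φ := cp φ hcomm with hΦ
  set Y : Subgroup C := Φ.range with hY
  obtain ⟨m, hm⟩ : ∃ m, Fintype.card F = 2 * m + 1 := by
    have h1 := FiniteField.odd_card_of_char_ne_two h2
    exact ⟨Fintype.card F / 2, by omega⟩
  set v := (m * (m + 1)).factorization 2 with hv
  -- `Y` is normal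
  have hYn : Y.Normal := by
    refine ⟨?_⟩
    rintro _ ⟨a, rfl⟩ c
    choose δ hδ using hconj c
    exact ⟨_, (conj_prod φ hcomm hδ a).symm⟩
  -- the index of `Y` is a power of 2
  obtain ⟨k, hk⟩ : ∃ k, Y.index = 2 ^ k := by
    have h1 : IsPGroup 2 (C ⧸ Y) := by
      intro x
      obtain ⟨c, rfl⟩ := QuotientGroup.mk_surjective x
      obtain ⟨k, hk⟩ := hpow c
      exact ⟨k, by rw [← QuotientGroup.mk_pow, QuotientGroup.eq_one_iff]; exact hk⟩
    exact IsPGroup.iff_card.1 h1
  have hk0 : k ≠ 0 := by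
    rintro rfl
    rw [pow_zero, Subgroup.index_eq_one] at hk
    exact hne hk
  -- the order of `Y`
  have hcardY : 7 * (v + 1) + 3 ≤ (Nat.card ↥Y).factorization 2 := by
    have h1 : Nat.card ↥Y * Nat.card ↥Φ.ker = Nat.card (ι → SL) := by
      rw [hY, ← Subgroup.index_ker]
      exact Subgroup.index_mul_card _
    have h3 : (Nat.card (ι → SL)).factorization 2 = 7 * (v + 2) := by
      rw [Nat.card_pi, Finset.prod_const, Finset.card_univ, hι, Nat.factorization_pow, Finsupp.smul_apply,
        fac_card_SL h2 hm, smul_eq_mul]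
    have h4 := fac_le (Nat.card_pos (α := ↥Φ.ker)).ne' (card_ker_le φ hcomm hι hinj hcl)
    rw [← h1, Nat.factorization_mul (Nat.card_pos).ne' (Nat.card_pos).ne', Finsupp.add_apply] at h3
    omega
  have hcardC : (Nat.card C).factorization 2 = (Nat.card ↥Y).factorization 2 + k := by
    rw [← Subgroup.card_mul_index Y, hk, Nat.factorization_mul (Nat.card_pos).ne' (by positivity), Finsupp.add_apply,
      Nat.factorization_pow, Finsupp.smul_apply, Nat.Prime.factorization_self Nat.prime_two, smul_eq_mul, mul_one]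
  obtain ⟨ψ, d, hψ, hd, hne0, hdn, hnd⟩ := H681.DegBasic.exists_constituent Y hθ hn
  rw [hk] at hnd
  have hn0 : n ≠ 0 := by
    obtain ⟨n', hn', hn''⟩ := isIrr_apply_one hθ
    rw [hn] at hn''
    have : n = n' := by exact_mod_cast hn''
    omega
  obtain ⟨e, he⟩ := hdn
  have hd0 : d ≠ 0 := fun h => hn0 (by rw [he, h, zero_mul])
  have he0 : e ≠ 0 := fun h => hn0 (by rw [he, h, mul_zero])
  have hnde : n / d = e := by rw [he, Nat.mul_div_cancel_left e (Nat.pos_of_ne_zero hd0)]
  rw [hnde] at hnd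
  have hfe : e.factorization 2 ≤ k := by
    refine fac_le he0 (Nat.le_of_dvd (by positivity) hnd)
  have hfn : n.factorization 2 = d.factorization 2 + e.factorization 2 := by
    rw [he, Nat.factorization_mul hd0 he0]; rfl
  -- the constituent is a product
  have hψ' : IsIrrCharacter (ι → SL) (ψ ∘ Φ.rangeRestrict) :=
    isIrr_comp Φ.rangeRestrict Φ.rangeRestrict_surjective hψ
  obtain ⟨η, hη, hprod⟩ := Cfsg.Agent.H624.MGroup.exists_pi _ hψ'
  have hdeg : ∀ i, ∃ d' : ℕ, η i 1 = (d' : ℂ) := fun i => by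
    obtain ⟨d', -, hd'⟩ := isIrr_apply_one (hη i)
    exact ⟨d', hd'⟩
  choose dd hdd using hdeg
  have hmain := fun i => fact_main h2 hm (hη i) (hdd i)
  have hdprod : d = ∏ i, dd i := by
    have h1 := hprod 1
    have h3 : (ψ ∘ Φ.rangeRestrict) 1 = ψ 1 := by
      show ψ (Φ.rangeRestrict 1) = ψ 1
      rw [map_one]
    rw [h3, hd] at h1
    have h4 : ∀ i, η i ((1 : ι → SL) i) = (dd i : ℂ) := fun i => hdd i
    simp only [h4] at h1
    exact_mod_cast h1
  have hfd : d.factorization 2 = ∑ i, (dd i).factorization 2 := by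
    rw [hdprod, Nat.factorization_prod (fun i _ => (hmain i).1), Finsupp.finsetSum_apply]
  have hle : ∀ i ∈ Finset.univ, (dd i).factorization 2 ≤ v + 1 := fun i _ => (hmain i).2.1
  have hsum : ∑ _i : ι, (v + 1) = 7 * (v + 1) := by
    rw [Finset.sum_const, Finset.card_univ, hι, smul_eq_mul]
  have hfd1 : ∑ i, (dd i).factorization 2 ≤ 7 * (v + 1) := by
    rw [← hsum]; exact Finset.sum_le_sum hle
  have hfd2 : ∑ i, (dd i).factorization 2 = ∑ _i : ι, (v + 1) := by
    rw [hsum]; omega
  have hall := (Finset.sum_eq_sum_iff_of_le hle).1 hfd2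
  have hinv : ∀ i (δ : GL (Fin 2) F) (a : SL), η i (tw δ a) = η i a :=
    fun i => (hmain i).2.2 (hall i (Finset.mem_univ i))
  -- `ψ` is invariant
  have hψinv : ∀ c : C, ψ ∘ (MulAut.conjNormal c : MulAut ↥Y) = ψ := by
    intro c
    funext y
    obtain ⟨a, ha⟩ := Φ.rangeRestrict_surjective y
    choose δ hδ using hconj c
    have h1 : (MulAut.conjNormal c : MulAut ↥Y) y = Φ.rangeRestrict (fun i => tw (δ i) (a i)) := by
      apply Subtype.ext
      rw [← ha, MulAut.conjNormal_apply]
      exact conj_prod φ hcomm hδ a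
    show ψ ((MulAut.conjNormal c : MulAut ↥Y) y) = ψ y
    rw [h1, ← ha]
    have h3 := hprod (fun i => tw (δ i) (a i))
    have h4 := hprod a
    have h5 : ∏ i, η i (tw (δ i) (a i)) = ∏ i, η i (a i) := Finset.prod_congr rfl fun i _ => hinv i _ _
    exact h3.trans (h5.trans h4.symm)
  -- the restriction is a multiple of `ψ`
  have hres := Cfsg.Agent.CharactersDeep.CliffordSum.restrict_eq_smul_sum Y hθ hψ hne0
  have himg : Finset.univ.image (fun x : C => ψ ∘ (MulAut.conjNormal x : MulAut ↥Y)) = {ψ} := by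
    ext f
    rw [Finset.mem_image, Finset.mem_singleton]
    constructor
    · rintro ⟨x, -, rfl⟩; exact hψinv x
    · rintro rfl; exact ⟨1, Finset.mem_univ _, hψinv 1⟩
  rw [himg, Finset.sum_singleton] at hres
  set z : ℂ := classInner (fun n : ↥Y => θ n) ψ with hz'
  have hze : z = e := by
    have h1 := congrFun hres 1
    have h3 : θ ((1 : ↥Y) : C) = n := by rw [← hn]; rfl
    rw [h3, Pi.smul_apply, smul_eq_mul, hd, he] at h1
    push_cast at h1
    have hd0' : (d : ℂ) ≠ 0 := Nat.cast_ne_zero.2 hd0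
    have h4 : (d : ℂ) * (z - e) = 0 := by linear_combination -h1
    rcases mul_eq_zero.1 h4 with h | h
    · exact absurd h hd0'
    · linear_combination h
  -- norms
  have hnorm : e ^ 2 * Nat.card ↥Y ≤ Nat.card C := by
    have h1 := classInner_irr_self hθ
    have h3 := classInner_irr_self hψ
    rw [classInner_self_eq_ofReal] at h1 h3
    have h1' : ∑ g : C, Complex.normSq (θ g) = Nat.card C := by
      have h5 : ((Nat.card C : ℝ))⁻¹ * ∑ g : C, Complex.normSq (θ g) = 1 := by exact_mod_cast h1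
      have h6 : (Nat.card C : ℝ) ≠ 0 := Nat.cast_ne_zero.2 (Nat.card_pos).ne'
      field_simp at h5
      linarith
    have h3' : ∑ g : ↥Y, Complex.normSq (ψ g) = Nat.card ↥Y := by
      have h5 : ((Nat.card ↥Y : ℝ))⁻¹ * ∑ g : ↥Y, Complex.normSq (ψ g) = 1 := by exact_mod_cast h3
      have h6 : (Nat.card ↥Y : ℝ) ≠ 0 := Nat.cast_ne_zero.2 (Nat.card_pos).ne'
      field_simp at h5
      linarith
    have h7 : ∑ g : ↥Y, Complex.normSq (θ (g : C)) = (e : ℝ) ^ 2 * Nat.card ↥Y := by
      rw [← h3', Finset.mul_sum]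
      refine Finset.sum_congr rfl fun g _ => ?_
      have h8 := congrFun hres g
      rw [hze] at h8
      have h9 : θ (g : C) = (e : ℂ) * ψ g := h8
      rw [h9, Complex.normSq_mul, Complex.normSq_natCast, sq]
    have h8 : ∑ g : ↥Y, Complex.normSq (θ (g : C)) ≤ ∑ g : C, Complex.normSq (θ g) :=
      sum_subgroup_le Y _ fun _ => Complex.normSq_nonneg _
    rw [h7, h1'] at h8
    exact_mod_cast h8
  have hee : e ^ 2 ≤ 2 ^ k := by
    rw [← Subgroup.card_mul_index Y, hk, mul_comm] at hnorm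
    exact Nat.le_of_mul_le_mul_left hnorm Nat.card_pos
  have hek : k ≤ e.factorization 2 := by omega
  have h2k : 2 ^ k ≤ e := (Nat.pow_le_pow_right two_pos hek).trans (Nat.ordProj_le 2 he0)
  have h2k1 : 2 ≤ 2 ^ k := by
    calc 2 = 2 ^ 1 := by norm_num
      _ ≤ 2 ^ k := Nat.pow_le_pow_right two_pos (Nat.one_le_iff_ne_zero.2 hk0)
  nlinarith

end Main

end Cfsg.Agent.H425.KKL
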