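import Cfsg.Agent.H645.KKL.Klein4
import Cfsg.Agent.H417.DegMTwelve
import Cfsg.Agent.MTwelveType.SylowModel
import Cfsg.Agent.S0383
import Cfsg.Agent.SporadicA.M11Comp

/-!
# The 2-block of `M₁₂` with a Klein four defect group, and the values at the elements of order five
-/

set_option autoImplicit false

open Cfsg Subgroup
open Cfsg.Agent.H613.RegGram
open scoped Pointwise

namespace Cfsg.Agent.H425.KKL.MTwelve

open Cfsg.Agent.Characters Cfsg.Agent.MTwelve.BlockData
open Cfsg.Agent.MTwelve Cfsg.Agent.MTwelve.FiveBlock Cfsg.Agent.MTwelve.FiveLocal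
  Cfsg.Agent.MTwelve.DegreeEleven Cfsg.Agent.MTwelve.DegreeElevenMain Cfsg.Agent.MTwelve.Assembly5
open Cfsg.Agent.SmallSimple Cfsg.Agent.SmallSimple.PrimeLocal

/-- degrees -/
def dd : Fin 4 → ℕ := ![16, 16, 144, 176]

/-- signs -/
def ee : Fin 4 → ℤ := ![1, 1, 1, -1]

theorem squareDodecad_mem : Spor.squareDodecad ∈ dodecads := by
  have h : Spor.squareDodecad = Cfsg.Agent.SporadicA.M11Comp.sqD := by
    ext x
    rw [Cfsg.Agent.SporadicA.M11Comp.mem_sqD]
    revert x
    decide +kernel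
  rw [h]
  exact Cfsg.Agent.SporadicA.M11Comp.sqD_mem_dodecads

/-- The two descriptions of `M₁₂`. -/
def equiv : ↥(MulAction.stabilizer M24 Spor.squareDodecad) ≃* Spor.M12 where
  toFun g := ⟨((g : M24) : Equiv.Perm GolayPt), (g : M24).2, g.2⟩
  invFun g := ⟨⟨(g : Equiv.Perm GolayPt), g.2.1⟩, g.2.2⟩
  left_inv _ := rfl
  right_inv _ := rfl
  map_mul' _ _ := rfl

theorem simple_of {H : Type} [Group H] (e : H ≃* Spor.M12) : IsSimpleGroup H := by
  have h1 := Cfsg.Agent.S0383.result _ squareDodecad_mem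
  have h2 := equiv.isSimpleGroup_congr.1 h1
  exact e.isSimpleGroup_congr.2 h2

theorem card_of {H : Type} [Group H] (e : H ≃* Spor.M12) : Nat.card H = 95040 :=
  (Nat.card_congr e.toEquiv).trans Cfsg.Agent.MTwelveType.SylowModel.card_M12

/-- The degrees with two-part exactly `16`. -/
theorem degrees {H : Type} [Group H] [Fintype H] [IsSimpleGroup H] (hc : Nat.card H = 95040) :
    ∃ th th' c : IrrCharacter H, th ≠ th' ∧ charDegree (th : H → ℂ) = 16 ∧ charDegree (th' : H → ℂ) = 16 ∧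
      charDegree (c : H → ℂ) = 144 ∧
      (∀ ψ : IrrCharacter H, 16 ∣ charDegree (ψ : H → ℂ) → ¬ 32 ∣ charDegree (ψ : H → ℂ) →
        ψ = th ∨ ψ = th' ∨ ψ = c ∨ charDegree (ψ : H → ℂ) = 176) ∧
      (∀ a b : IrrCharacter H, charDegree (a : H → ℂ) = 176 → charDegree (b : H → ℂ) = 176 → a = b) := by
  classical
  have := Core.finite_irr (G := H)
  have := Fintype.ofFinite (IrrCharacter H)
  obtain ⟨C, t, hdeg, -, -, -, -⟩ := Cfsg.Agent.H417.DegMTwelve.exists_ctx hc
    (Cfsg.Agent.MTwelve.SylowEleven.centralizer_sylow11 hc)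
    (Cfsg.Agent.MTwelve.SylowEleven.card_normalizer_sylow11 hc)
  have hd : ∀ ψ : IrrCharacter H, charDegree (ψ : H → ℂ) = C.deg ψ := fun ψ => by
    rw [hdeg, Cfsg.Agent.MTwelve.ElevenMain.charDegree_eq_deg]
  simp only [hd]
  refine ⟨C.th, C.th', C.c144, C.th_ne, C.dth, C.dth', C.d144, fun ψ h16 h32 => ?_, fun a b ha hb => ?_⟩
  · rcases C.rest ψ with h | h | h | h | h | h | h | h
    · exfalso; rw [h, C.deg_o] at h16; omega
    · exfalso; rw [h, C.d45] at h16; omega
    · exfalso; rw [h, C.d54] at h16; omega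
    · exfalso; rw [h, C.d120] at h16; omega
    · exact Or.inr (Or.inr (Or.inl h))
    · exact Or.inl h
    · exact Or.inr (Or.inl h)
    · right; right; right
      have ho : ψ ≠ C.o := by
        rintro rfl
        rw [C.deg_o] at h
        omega
      have hp := C.hpool ψ ho
      have key : ∀ n ∈ pool, 11 ∣ n → 16 ∣ n → ¬ 32 ∣ n → n = 176 := by decide
      exact key _ hp h h16 h32
  · by_contra hab
    have h1 : ∑ i ∈ ({C.c120, C.c144, a, b} : Finset (IrrCharacter H)), (C.deg i : ℤ) * C.deg i ≤ 95040 := by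
      rw [← C.sum_dd]
      exact Finset.sum_le_sum_of_subset_of_nonneg (Finset.subset_univ _) fun i _ _ => mul_self_nonneg _
    have n1 : C.c120 ≠ C.c144 := fun h => by have := C.d120; rw [h, C.d144] at this; omega
    have n2 : C.c120 ≠ a := fun h => by have := C.d120; rw [h, ha] at this; omega
    have n3 : C.c120 ≠ b := fun h => by have := C.d120; rw [h, hb] at this; omega
    have n4 : C.c144 ≠ a := fun h => by have := C.d144; rw [h, ha] at this; omega
    have n5 : C.c144 ≠ b := fun h => by have := C.d144; rw [h, hb] at this; omega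
    rw [Finset.sum_insert (by simp [n1, n2, n3]), Finset.sum_insert (by simp [n4, n5]),
      Finset.sum_insert (by simp [hab]), Finset.sum_singleton, C.d120, C.d144, ha, hb] at h1
    norm_num at h1

theorem Q4 {H : Type} [Group H] [Fintype H] (e : H ≃* Spor.M12) {M : Ideal AlgInt} (hM : IsPModular 2 M)
    {β : Set (IrrCharacter H)} (hβ : IsPBlock M β) {V : Subgroup H} (hV : IsDefectGroup 2 M β V)
    (hc : Nat.card ↥V = 4) (hx : ∀ v ∈ V, v * v = 1) :
    ∃ ψ : Fin 4 → IrrCharacter H, Function.Injective ψ ∧ β = Set.range ψ ∧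
      (∀ i, charDegree (ψ i : H → ℂ) = dd i) ∧
      (∀ i j, rg 2 (ψ i : H → ℂ) (ψ j : H → ℂ) = (if i = j then 1 else 0) - (ee i : ℂ) * (ee j : ℂ) / 4) ∧
      (∀ φ : IrrCharacter H, charDegree (φ : H → ℂ) = 16 → φ ∈ β) := by
  classical
  have : Fact (Nat.Prime 2) := ⟨Nat.prime_two⟩
  have hsim := simple_of e
  have hcard := card_of e
  obtain ⟨th, th', c, hne, hth, hth', hc144, hrest, hone⟩ := degrees hcard
  obtain ⟨hk, ε, hε, hcase⟩ := Cfsg.Agent.H645.KKL.klein hM hβ hV hc hx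
  have hd : blockDefect 2 β = 2 := by
    have h1 := Cfsg.Agent.S0908.result 2 M hM β hβ V hV
    rw [hc] at h1
    exact (Nat.pow_right_injective le_rfl (by rw [← h1]; norm_num : (2 : ℕ) ^ 2 = 2 ^ blockDefect 2 β)).symm
  have hf : (Nat.card H).factorization 2 = 6 := by
    have h1 : (2 ^ 6 * 1485 : ℕ).factorization 2 = 6 := by
      rw [Nat.factorization_mul (by norm_num) (by norm_num), Nat.factorization_pow]
      simp only [Finsupp.add_apply, Finsupp.smul_apply, smul_eq_mul, Nat.prime_two.factorization_self,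
        Nat.factorization_eq_zero_of_not_dvd (show ¬ 2 ∣ 1485 by norm_num)]
    rw [hcard, show (95040 : ℕ) = 2 ^ 6 * 1485 by norm_num, h1]
  -- the heights
  have h16 : ∀ χ ∈ β, 16 ∣ charDegree (χ : H → ℂ) := by
    intro χ hχ
    have h1 := defect_add_le (p := 2) hχ
    rw [hd, hf] at h1
    have h2 : 2 ^ 4 ∣ charDegree (χ : H → ℂ) :=
      (Nat.Prime.pow_dvd_iff_le_factorization Nat.prime_two (charDegree_ne_zero χ)).2 (by omega)
    exact h2
  have h32 : ∀ χ ∈ β, ¬ 32 ∣ charDegree (χ : H → ℂ) := by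
    intro χ hχ h
    obtain ⟨s, hs⟩ := Cfsg.Agent.H606.HeightBound.exists_pair_eq_of_dvd (p := 2) χ χ 5 h
    have h1 : rg 2 (χ : H → ℂ) (χ : H → ℂ) = (s : ℂ) / 2 := by
      rw [rg_def, hs, hf, hcard]
      norm_num
      ring
    have h2 : (ε χ : ℂ) * (ε χ : ℂ) = 1 := by
      rcases hε χ with h3 | h3 <;> rw [h3] <;> norm_num
    rcases hcase with ⟨-, h3⟩ | ⟨-, h3⟩
    · have h4 := h3 χ hχ χ hχ
      rw [h1, h2] at h4
      have h5 : (2 * s : ℤ) = 1 := by
        have : ((2 * s : ℤ) : ℂ) = ((1 : ℤ) : ℂ) := by push_cast; linear_combination h4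
        exact_mod_cast this
      omega
    · have h4 := h3 χ hχ χ hχ
      rw [h1, h2, if_pos rfl] at h4
      have h5 : (2 * s : ℤ) = 3 := by
        have : ((2 * s : ℤ) : ℂ) = ((3 : ℤ) : ℂ) := by push_cast; linear_combination h4
        exact_mod_cast this
      omega
  have hsub : ∀ χ ∈ β, χ = th ∨ χ = th' ∨ χ = c ∨ charDegree (χ : H → ℂ) = 176 := fun χ hχ =>
    hrest χ (h16 χ hχ) (h32 χ hχ)
  obtain ⟨d, hd176⟩ : ∃ d : IrrCharacter H, charDegree (d : H → ℂ) = 176 := by
    by_contra hno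
    push Not at hno
    have h1 : β ⊆ (({th, th', c} : Finset (IrrCharacter H)) : Set (IrrCharacter H)) := by
      intro χ hχ
      rcases hsub χ hχ with h | h | h | h
      · simp [h]
      · simp [h]
      · simp [h]
      · exact absurd h (hno χ)
    have h2 := Nat.card_mono (Finset.finite_toSet _) h1
    rw [hk, Nat.card_coe_set_eq, Set.ncard_coe_finset] at h2
    have h3 : ({th, th', c} : Finset (IrrCharacter H)).card ≤ 3 := Finset.card_le_three
    omega
  let ψ : Fin 4 → IrrCharacter H := ![th, th', c, d]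
  have hψd : ∀ i, charDegree (ψ i : H → ℂ) = dd i := by
    intro i
    fin_cases i
    · exact hth
    · exact hth'
    · exact hc144
    · exact hd176
  have hinj : Function.Injective ψ := by
    intro i j hij
    have h1 : dd i = dd j := by rw [← hψd i, ← hψd j, hij]
    fin_cases i <;> fin_cases j <;> first
      | rfl
      | (exfalso; revert h1; decide)
      | exact absurd hij hne
      | exact absurd hij.symm hne
  have hβ' : β = Set.range ψ := by
    have h1 : β ⊆ Set.range ψ := by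
      intro χ hχ
      rcases hsub χ hχ with h | h | h | h
      · exact ⟨0, h.symm⟩
      · exact ⟨1, h.symm⟩
      · exact ⟨2, h.symm⟩
      · exact ⟨3, (hone _ _ h hd176).symm⟩
    refine Set.eq_of_subset_of_ncard_le h1 ?_ (Set.finite_range ψ)
    rw [← Nat.card_coe_set_eq, ← Nat.card_coe_set_eq, hk, Nat.card_range_of_injective hinj]
    simp
  subst hβ'
  have hmem : ∀ i, ψ i ∈ Set.range ψ := fun i => ⟨i, rfl⟩
  have hsum : ∀ i, ∑ j, rg 2 (ψ i : H → ℂ) (ψ j : H → ℂ) * (dd j : ℂ) = dd i := by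
    intro i
    have h1 := congrFun (regPart_eq_sum_regPart (p := 2) hM hβ (hmem i)) 1
    have h2 : ∀ f : H → ℂ, Cfsg.Agent.Blocks.Blau.regPart 2 f 1 = f 1 := fun f =>
      Cfsg.Agent.Blocks.Blau.regPart_of_not_dvd (by rw [orderOf_one]; norm_num)
    rw [h2, Finset.sum_apply] at h1
    simp only [Pi.smul_apply, h2, smul_eq_mul] at h1
    rw [← (Equiv.ofInjective ψ hinj).sum_comp] at h1
    simp only [Equiv.ofInjective_apply, apply_one_eq_charDegree, hψd] at h1
    exact h1.symm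
  refine ⟨ψ, hinj, rfl, hψd, ?_, ?_⟩
  · have e0 := hε (ψ 0)
    have e1 := hε (ψ 1)
    have e2 := hε (ψ 2)
    have e3 := hε (ψ 3)
    have d0 : dd 0 = 16 := rfl
    have d1 : dd 1 = 16 := rfl
    have d2 : dd 2 = 144 := rfl
    have d3 : dd 3 = 176 := rfl
    rcases hcase with ⟨-, h3⟩ | ⟨-, h3⟩
    · exfalso
      have hr : ∀ i j, rg 2 (ψ i : H → ℂ) (ψ j : H → ℂ) = (ε (ψ i) : ℂ) * (ε (ψ j) : ℂ) / 4 := fun i j => by
        have := h3 _ (hmem i) _ (hmem j)
        linear_combination this / 4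
      have s0 := hsum 0
      have s2 := hsum 2
      simp only [Fin.sum_univ_four, hr, d0, d1, d2, d3] at s0 s2
      have t0 : ε (ψ 0) * (16 * ε (ψ 0) + 16 * ε (ψ 1) + 144 * ε (ψ 2) + 176 * ε (ψ 3)) = 64 := by
        have : ((ε (ψ 0) * (16 * ε (ψ 0) + 16 * ε (ψ 1) + 144 * ε (ψ 2) + 176 * ε (ψ 3)) : ℤ) : ℂ) =
            ((64 : ℤ) : ℂ) := by
          push_cast
          push_cast at s0
          linear_combination 4 * s0
        exact_mod_cast this
      have t2 : ε (ψ 2) * (16 * ε (ψ 0) + 16 * ε (ψ 1) + 144 * ε (ψ 2) + 176 * ε (ψ 3)) = 576 := by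
        have : ((ε (ψ 2) * (16 * ε (ψ 0) + 16 * ε (ψ 1) + 144 * ε (ψ 2) + 176 * ε (ψ 3)) : ℤ) : ℂ) =
            ((576 : ℤ) : ℂ) := by
          push_cast
          push_cast at s2
          linear_combination 4 * s2
        exact_mod_cast this
      rcases e0 with e0 | e0 <;> rcases e2 with e2 | e2 <;> rw [e0] at t0 <;> rw [e2] at t2 <;> omega
    · have hr : ∀ i j, rg 2 (ψ i : H → ℂ) (ψ j : H → ℂ) =
          (if i = j then 1 else 0) - (ε (ψ i) : ℂ) * (ε (ψ j) : ℂ) / 4 := fun i j => by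
        have h4 := h3 _ (hmem i) _ (hmem j)
        by_cases hij : i = j
        · subst hij
          rw [if_pos rfl] at h4 ⊢
          linear_combination h4 / 4
        · rw [if_neg (fun h => hij (hinj h))] at h4
          rw [if_neg hij]
          linear_combination h4 / 4
      have s0 := hsum 0
      simp only [Fin.sum_univ_four, hr, d0, d1, d2, d3] at s0
      have t0 : ε (ψ 0) * (16 * ε (ψ 0) + 16 * ε (ψ 1) + 144 * ε (ψ 2) + 176 * ε (ψ 3)) = 0 := by
        have : ((ε (ψ 0) * (16 * ε (ψ 0) + 16 * ε (ψ 1) + 144 * ε (ψ 2) + 176 * ε (ψ 3)) : ℤ) : ℂ) =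
            ((0 : ℤ) : ℂ) := by
          push_cast
          simp only [Fin.isValue, if_true, (by decide : ¬ (0 : Fin 4) = 1), (by decide : ¬ (0 : Fin 4) = 2),
            (by decide : ¬ (0 : Fin 4) = 3), if_false] at s0
          push_cast at s0
          linear_combination (-4) * s0
        exact_mod_cast this
      have key : (ε (ψ 0) = 1 ∧ ε (ψ 1) = 1 ∧ ε (ψ 2) = 1 ∧ ε (ψ 3) = -1) ∨
          (ε (ψ 0) = -1 ∧ ε (ψ 1) = -1 ∧ ε (ψ 2) = -1 ∧ ε (ψ 3) = 1) := by
        rcases e0 with e0 | e0 <;> rw [e0] at t0 <;> omega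
      intro i j
      rw [hr i j]
      congr 2
      rcases key with ⟨k0, k1, k2, k3⟩ | ⟨k0, k1, k2, k3⟩ <;>
        fin_cases i <;> fin_cases j <;>
        simp only [Fin.zero_eta, Fin.mk_one, Fin.reduceFinMk, k0, k1, k2, k3, ee] <;>
        simp
  · intro φ hφ
    rcases hrest φ (by rw [hφ]) (by rw [hφ]; norm_num) with h | h | h | h
    · exact ⟨0, h.symm⟩
    · exact ⟨1, h.symm⟩
    · rw [h, hc144] at hφ; omega
    · rw [h] at hφ; omega

theorem Q4five {H : Type} [Group H] [Fintype H] (e : H ≃* Spor.M12) (ψ : IrrCharacter H) (y : H) (hy : orderOf y = 5) :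
    (charDegree (ψ : H → ℂ) = 16 → (ψ : H → ℂ) y = 1) ∧ (charDegree (ψ : H → ℂ) = 144 → (ψ : H → ℂ) y = -1) ∧
    (charDegree (ψ : H → ℂ) = 176 → (ψ : H → ℂ) y = 1) := by
  classical
  have hsim := simple_of e
  have hc := card_of e
  have hf11 : Fact (Nat.Prime 11) := ⟨by norm_num⟩
  have hf5 : Fact (Nat.Prime 5) := ⟨by norm_num⟩
  have := Core.finite_irr (G := H)
  have := Fintype.ofFinite (IrrCharacter H)
  have h11 := Cfsg.Agent.MTwelve.SylowEleven.centralizer_sylow11 hc
  have hN := Cfsg.Agent.MTwelve.SylowEleven.card_normalizer_sylow11 hc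
  obtain ⟨R⟩ : Nonempty (Sylow 11 H) := inferInstance
  obtain ⟨Q, hQR⟩ := exists_sylow_five hc R (hN R)
  have hR := card_eleven hc R
  have hQ := card_five hc Q
  obtain ⟨B, B5, K, χ, z, hloc, hK, hM⟩ := Final.family hc h11 R (hN R) Q
  have h1 : B.ε (χ 1) * (deg (χ 1) : ℤ) = -54 := hM.deg 1
  have hmem : ∀ i, χ i ∈ B.NE := fun i => (hM.mem _).2 (Or.inr ⟨i, rfl⟩)
  have hε1 : B.ε (χ 1) = -1 := by
    rcases B.ε_eq (χ 1) (hmem 1) with h | h
    · rw [h] at h1; omega
    · exact h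
  have d54 : deg (χ 1) = 54 := by rw [hε1] at h1; omega
  have hone11 : ¬ 11 ∣ orderOf (1 : H) := by rw [orderOf_one]; norm_num
  have h3K : ¬ 3 ∣ Nat.card K := by
    refine not_three_dvd hc (R : Subgroup H) hR (h11 R) Q hQR hloc (χ 1).2
      (by rw [apply_one, d54]; norm_num) ?_
    intro x hx hx1
    have h4 := B.apply_NE (χ 1) (hmem 1) x hx hx1 1 (one_mem _) hone11
    rw [mul_one, hε1] at h4
    rw [h4]
    norm_num
  have hK2 : Nat.card K = 2 := by
    rcases hK with h | h | h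
    · exact h
    · rw [h] at h3K; norm_num at h3K
    · rw [h] at h3K; norm_num at h3K
  have hnt5 : Nontrivial (Q : Subgroup H) := by
    rw [← Finite.one_lt_card_iff_nontrivial, hQ]; norm_num
  obtain ⟨y0, hy1⟩ := exists_ne (1 : (Q : Subgroup H))
  have hy1' : (y0 : H) ≠ 1 := fun h => hy1 (Subtype.ext h)
  obtain ⟨t, hyt⟩ := exists_yt Q hQ hloc hK2 y0.2 hy1'
  have ht2 : t ^ 2 = 1 := by rw [← hyt.t_ord]; exact pow_orderOf_eq_one t
  have hG : commutator H = ⊤ := SmallDegree.commutator_eq_top_of_card (by rw [hc]; norm_num)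
  have hs : ∀ ψ : IrrCharacter H, ∃ s : ℤ, (ψ : H → ℂ) t = s := by
    intro ψ
    obtain ⟨k, hk⟩ := SmallDegree.character_eq_add_four_mul hG (Core.isIrr_isCharacter ψ.2) ht2
    refine ⟨deg ψ - 4 * k, ?_⟩
    rw [apply_one] at hk
    push_cast
    rw [hk]
    ring
  choose s hs1 using hs
  have hvw : ∀ ψ : IrrCharacter H, ∃ v : ℤ, (ψ : H → ℂ) y0 = v ∧ (5 : ℤ) ∣ deg ψ - v := fun ψ => by
    obtain ⟨v, w, e1, -, e3, -⟩ :=
      hyt.exists_int (Core.isIrr_isCharacter ψ.2) (n := (deg ψ : ℤ)) (by rw [apply_one]; norm_cast) (hs1 ψ)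
    exact ⟨v, e1, e3⟩
  choose v hv1 hv5 using hvw
  have hvv : ∑ χ, v χ * v χ = 10 := by
    rw [sum_mul_of_isConj hv1 hv1 (IsConj.refl _), hyt.card_cy]
    rfl
  have hle : v ψ * v ψ ≤ 10 := by
    rw [← hvv]
    exact Finset.single_le_sum (f := fun χ => v χ * v χ) (fun χ _ => mul_self_nonneg _) (Finset.mem_univ ψ)
  have hb : -4 < v ψ ∧ v ψ < 4 := by constructor <;> nlinarith
  have hyv : (ψ : H → ℂ) y = v ψ := by
    have hcj := Final.isConj_five hc hloc (y0 : H) y hyt.y_ord hy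
    obtain ⟨g, rfl⟩ := isConj_iff.1 hcj
    rw [← hv1 ψ]
    exact Core.isCharacter_isClassFunction (Core.isIrr_isCharacter ψ.2) _ g
  rw [hyv, Cfsg.Agent.MTwelve.ElevenMain.charDegree_eq_deg]
  have h5 := hv5 ψ
  refine ⟨fun h => ?_, fun h => ?_, fun h => ?_⟩
  · rw [h] at h5
    have : v ψ = 1 := by omega
    rw [this]; norm_num
  · rw [h] at h5
    have : v ψ = -1 := by omega
    rw [this]; norm_num
  · rw [h] at h5
    have : v ψ = 1 := by omega
    rw [this]; norm_num

end Cfsg.Agent.H425.KKL.MTwelve
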