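import Cfsg.Agent.H984.SLTable

/-!
# S4546, E7: characters of `SL₂(q)` of full 2-degree are invariant under `GL₂(q)` (helper425)

* `tw δ` : the automorphism of `SL₂(F)` given by conjugation with `δ ∈ GL₂(F)`;
* `fact_le` : `v₂(χ(1)) ≤ v₂(m (m+1)) + 1` for `χ ∈ Irr(SL₂(q))`, `q = 2 m + 1`;
* `inv_of_fact` : if equality holds then `χ` is invariant under `GL₂(q)`.
-/

set_option autoImplicit false
set_option linter.unusedSectionVars false

namespace Cfsg.Agent.H425.KKL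

open Matrix Cfsg Cfsg.Agent.H984.SLTwo

variable {F : Type*} [Field F]

local notation "SL" => Matrix.SpecialLinearGroup (Fin 2) F
local notation "M₂" => Matrix (Fin 2) (Fin 2) F

/-- conjugation with `δ ∈ GL₂(F)` -/
def tw (δ : GL (Fin 2) F) : SL →* SL where
  toFun a := ⟨(δ : M₂) * (a : M₂) * ((δ⁻¹ : GL (Fin 2) F) : M₂), by
    have h : ((δ : M₂)).det * ((δ⁻¹ : GL (Fin 2) F) : M₂).det = 1 := by
      rw [← Matrix.det_mul, ← Units.val_mul, mul_inv_cancel, Units.val_one, Matrix.det_one]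
    rw [Matrix.det_mul, Matrix.det_mul, a.2, mul_one, h]⟩
  map_one' := by
    apply Subtype.ext
    simp
  map_mul' a b := by
    apply Subtype.ext
    have h : ((δ⁻¹ : GL (Fin 2) F) : M₂) * (δ : M₂) = 1 := by
      rw [← Units.val_mul, inv_mul_cancel, Units.val_one]
    show (δ : M₂) * ((a : M₂) * (b : M₂)) * ((δ⁻¹ : GL (Fin 2) F) : M₂) =
      ((δ : M₂) * (a : M₂) * ((δ⁻¹ : GL (Fin 2) F) : M₂)) * ((δ : M₂) * (b : M₂) * ((δ⁻¹ : GL (Fin 2) F) : M₂))
    calc (δ : M₂) * ((a : M₂) * (b : M₂)) * ((δ⁻¹ : GL (Fin 2) F) : M₂)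
        = (δ : M₂) * (a : M₂) * 1 * (b : M₂) * ((δ⁻¹ : GL (Fin 2) F) : M₂) := by
          rw [Matrix.mul_one]; simp only [Matrix.mul_assoc]
      _ = (δ : M₂) * (a : M₂) * (((δ⁻¹ : GL (Fin 2) F) : M₂) * (δ : M₂)) * (b : M₂) * ((δ⁻¹ : GL (Fin 2) F) : M₂) := by
          rw [h]
      _ = _ := by simp only [Matrix.mul_assoc]

theorem coe_tw (δ : GL (Fin 2) F) (a : SL) :
    ((tw δ a : SL) : M₂) = (δ : M₂) * (a : M₂) * ((δ⁻¹ : GL (Fin 2) F) : M₂) := rfl

theorem tw_mul (δ ε : GL (Fin 2) F) (a : SL) : tw (δ * ε) a = tw δ (tw ε a) := by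
  apply Subtype.ext
  show ((δ * ε : GL (Fin 2) F) : M₂) * (a : M₂) * (((δ * ε)⁻¹ : GL (Fin 2) F) : M₂) =
    (δ : M₂) * ((ε : M₂) * (a : M₂) * ((ε⁻¹ : GL (Fin 2) F) : M₂)) * ((δ⁻¹ : GL (Fin 2) F) : M₂)
  rw [_root_.mul_inv_rev, Units.val_mul, Units.val_mul]
  simp only [Matrix.mul_assoc]

theorem tw_one (a : SL) : tw (1 : GL (Fin 2) F) a = a := by
  apply Subtype.ext
  show ((1 : GL (Fin 2) F) : M₂) * (a : M₂) * (((1 : GL (Fin 2) F)⁻¹ : GL (Fin 2) F) : M₂) = (a : M₂)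
  rw [inv_one, Units.val_one, Matrix.one_mul, Matrix.mul_one]

theorem tw_inv_tw (δ : GL (Fin 2) F) (a : SL) : tw δ⁻¹ (tw δ a) = a := by
  rw [← tw_mul, inv_mul_cancel, tw_one]

theorem tw_tw_inv (δ : GL (Fin 2) F) (a : SL) : tw δ (tw δ⁻¹ a) = a := by
  rw [← tw_mul, mul_inv_cancel, tw_one]

/-- inner automorphisms -/
theorem tw_toGL (b a : SL) : tw (Matrix.SpecialLinearGroup.toGL b) a = b * a * b⁻¹ := by
  apply Subtype.ext
  rfl

theorem tw_of_not_NS (δ : GL (Fin 2) F) {a : SL} (h : ¬ NS (a : M₂)) : tw δ a = a := by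
  unfold NS at h
  push Not at h
  obtain ⟨h01, h10, h00⟩ := h
  have e : (a : M₂) = (a : M₂) 0 0 • (1 : M₂) := by
    ext i j
    fin_cases i <;> fin_cases j <;> simp [h01, h10, h00]
  apply Subtype.ext
  rw [coe_tw, e, Matrix.mul_smul, Matrix.smul_mul, Matrix.mul_one, ← Units.val_mul, mul_inv_cancel, Units.val_one]

theorem tr_tw (δ : GL (Fin 2) F) (a : SL) : tr ((tw δ a : SL) : M₂) = tr (a : M₂) := by
  have h1 : ∀ m : M₂, tr m = Matrix.trace m := by
    intro m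
    rw [Matrix.trace_fin_two]; rfl
  rw [h1, h1, coe_tw, Matrix.trace_mul_comm, ← Matrix.mul_assoc, ← Units.val_mul, inv_mul_cancel, Units.val_one,
    Matrix.one_mul]

theorem NS_tw (δ : GL (Fin 2) F) {a : SL} (h : NS (a : M₂)) : NS ((tw δ a : SL) : M₂) := by
  by_contra hn
  have h1 := tw_of_not_NS δ⁻¹ hn
  rw [tw_inv_tw] at h1
  rw [← h1] at hn
  exact hn h

section Fin

variable [Fintype F] [DecidableEq F]

/-- class functions constant on the unipotent elements are invariant -/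
theorem inv_of_unip (h2 : ringChar F ≠ 2) {f : SL → ℂ} (hf : IsClassFunction SL f)
    (hu : ∀ u : Fˣ, u⁻¹ = u → ∀ x : F, x ≠ 0 → ∀ y : F, y ≠ 0 → f (upp u x) = f (upp u y))
    (δ : GL (Fin 2) F) (a : SL) : f (tw δ a) = f a := by
  have hcl : ∀ {g h : SL}, IsConj g h → f g = f h := by
    intro g h hgh
    obtain ⟨c, hc⟩ := isConj_iff.1 hgh
    rw [← hc]
    exact (hf g c).symm
  by_cases hNS : NS (a : M₂)
  · have hNS' := NS_tw δ hNS
    have htr := tr_tw δ a
    by_cases h4 : tr (a : M₂) ^ 2 = 4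
    · have h5 : (tr (a : M₂) - 2) * (tr (a : M₂) + 2) = 0 := by linear_combination h4
      have h6 : ∃ u : Fˣ, u⁻¹ = u ∧ tr (a : M₂) = 2 * (u : F) := by
        rcases mul_eq_zero.1 h5 with h | h
        · exact ⟨1, inv_one, by rw [Units.val_one]; linear_combination h⟩
        · exact ⟨-1, by rw [inv_neg, inv_one], by rw [Units.val_neg, Units.val_one]; linear_combination h⟩
      obtain ⟨u, hu1, hu2⟩ := h6
      obtain ⟨b, hb, hab⟩ := exists_conj_upp' hu1 hNS hu2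
      obtain ⟨c, hc, hac⟩ := exists_conj_upp' hu1 hNS' (htr.trans hu2)
      rw [hcl hab, hcl hac]
      exact hu u hu1 c hc b hb
    · exact hcl (isConj_of_tr hNS' hNS htr (Or.inr (by rw [htr]; exact h4)))
  · rw [tw_of_not_NS δ hNS]

/-- **The 2-part of the degree.** -/
theorem fact_main (h2 : ringChar F ≠ 2) {m : ℕ} (hm : Fintype.card F = 2 * m + 1) {χ : SL → ℂ}
    (hχ : IsIrrCharacter SL χ) {d : ℕ} (hd : χ 1 = (d : ℂ)) :
    d ≠ 0 ∧ d.factorization 2 ≤ (m * (m + 1)).factorization 2 + 1 ∧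
    (d.factorization 2 = (m * (m + 1)).factorization 2 + 1 → ∀ (δ : GL (Fin 2) F) (a : SL), χ (tw δ a) = χ a) := by
  have hm0 : m ≠ 0 := by
    have := two_le_card (F := F)
    omega
  have hcl := Cfsg.Agent.Characters.Core.isIrr_isClassFunction hχ
  have hmm : (m * (m + 1)).factorization 2 = m.factorization 2 + (m + 1).factorization 2 := by
    rw [Nat.factorization_mul hm0 (Nat.succ_ne_zero m)]; rfl
  have h22 : (2 : ℕ).factorization 2 = 1 := Nat.Prime.factorization_self Nat.prime_two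
  rcases classify h2 hm hχ with ⟨α, -, hR, h1⟩ | ⟨h, h1⟩ | ⟨h, h1⟩ | ⟨h1, -⟩ | ⟨-, ⟨h1, hX⟩ | ⟨h1, -⟩⟩
  · have e : d = 2 * m + 2 := by rw [h1] at hd; exact_mod_cast hd.symm
    subst e
    refine ⟨by omega, ?_, fun _ δ a => ?_⟩
    · have e : (2 * (m + 1)).factorization 2 = (2 : ℕ).factorization 2 + (m + 1).factorization 2 := by
        rw [Nat.factorization_mul two_ne_zero (Nat.succ_ne_zero m)]; rfl
      rw [show 2 * m + 2 = 2 * (m + 1) by ring, e, h22]
      omega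
    · refine inv_of_unip h2 hcl (fun u hu x hx y hy => ?_) δ a
      rw [hR, R_upp_ne α hu hx, R_upp_ne α hu hy]
  · have e : d = 1 := by rw [h1] at hd; exact_mod_cast hd.symm
    subst e
    refine ⟨one_ne_zero, by simp, fun _ δ a => ?_⟩
    rw [h]; rfl
  · have e : d = 2 * m + 1 := by rw [h1] at hd; exact_mod_cast hd.symm
    subst e
    refine ⟨by omega, ?_, fun _ δ a => ?_⟩
    · rw [Nat.factorization_eq_zero_of_not_dvd (by omega)]
      omega
    · refine inv_of_unip h2 hcl (fun u hu x hx y hy => ?_) δ a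
      rw [h]
      show R (1 : MulChar F ℂ) (upp u x) - 1 = R (1 : MulChar F ℂ) (upp u y) - 1
      rw [R_upp_ne _ hu hx, R_upp_ne _ hu hy]
  · have e : d = m + 1 := by rw [h1] at hd; exact_mod_cast hd.symm
    subst e
    exact ⟨by omega, by omega, fun h => by omega⟩
  · have e : d = 2 * m := by rw [h1] at hd; exact_mod_cast hd.symm
    subst e
    refine ⟨by omega, ?_, fun _ δ a => ?_⟩
    · rw [Nat.factorization_mul two_ne_zero hm0, Finsupp.add_apply, h22]
      omega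
    · obtain ⟨g, hg⟩ := exists_ell (F := F)
      obtain ⟨θ, α, -, -, hX⟩ := hX g hg
      refine inv_of_unip h2 hcl (fun u hu x hx y hy => ?_) δ a
      rw [hX, X_upp_ne hg θ α hu hx, X_upp_ne hg θ α hu hy]
  · have e : d = m := by rw [h1] at hd; exact_mod_cast hd.symm
    subst e
    exact ⟨hm0, by omega, fun h => by omega⟩

end Fin

end Cfsg.Agent.H425.KKL
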