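import Cfsg.Agent.H808.RV.FMain
import Cfsg.Agent.H425.KKL.CProd

/-!
# S4546, E7: the centralizer of `D = ⟨h_a(-1)⟩`, `a` in the frame of seven orthogonal roots (helper425)

`fr` : the frame; `Ps i` : the root `SL₂`; `YG` : the product of the seven root `SL₂`;
* `tor_conj` : the torus acts on the factors by `diag(χ, 1)`;
* `cent_eq` : an element commuting with all `h_a(-1)` is `y t`, `y ∈ YG`, `t` in the torus;
* `tor_sq` : `t² ∈ YG`; `exists_tor` : some `t` is not in `YG`.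
-/

set_option autoImplicit false
set_option linter.unusedSectionVars false

namespace Cfsg.Agent.H425.KKL

open Subgroup Cfsg Cfsg.Lie Cfsg.Lie.ChevalleyDatum Cfsg.Agent.ChevalleyStructure
  Cfsg.Agent.ChevalleyStructure.Elts Cfsg.Agent.ChevalleyStructure.NPerm Cfsg.Agent.ChevalleyStructure.CoxeterGeom
  Cfsg.Agent.ChevalleyStructure.CoxeterGeomTypes
  Cfsg.Agent.ChevalleyStructure.RootVec
  Cfsg.Agent.Nodes.RGDChev Cfsg.Agent.H412.OT Cfsg.Agent.H3.OT Cfsg.Agent.Nodes.Reps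
  Cfsg.Agent.Tits.Roots Cfsg.Agent.Tits.Core
open Cfsg.Agent.Nodes.RGDFoldSL (wS hS coe_wS coe_hS psi psi_up psi_lo psi_wS psi_hS)
open Cfsg.Agent.ChevalleyStructure.SL2Hom (up lo mem_closure_SL2)
open Cfsg.Agent.H808.RV

universe u

/-- the frame -/
def fr : Fin 7 → ℕ := ![0, 33, 38, 47, 52, 59, 62]

theorem fr_mem : ∀ i, fr i ∈ FE7 := by decide
theorem exists_fr : ∀ r ∈ FE7, ∃ i, fr i = r := by decide
theorem fr_inj : ∀ i j, fr i = fr j → i = j := by decide

theorem e7T : IsType chevE7 7 CoxeterMatrix.E₇ := by simp [IsType, typeList]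

theorem fr_lt (i : Fin 7) : fr i < chevE7.nroots := lt_E7 _ (fr_mem i)

/-- the roots with even pairings are `± fr i` -/
def tabP : Bool :=
  (List.range chevE7.nroots).all fun s => (FE7.any fun r => prC chevE7 r s % 2 != 0) ||
    (FE7.any fun r => (s == r) || (s == chevE7.neg r))

theorem tabP_true : tabP = true := by decide +kernel

theorem tabP_spec {s : ℕ} (hs : s < chevE7.nroots) (h : ∀ r ∈ FE7, prC chevE7 r s % 2 = 0) :
    ∃ r ∈ FE7, s = r ∨ s = chevE7.neg r := by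
  have h0 := tabP_true
  unfold tabP at h0
  have h1 := List.all_eq_true.1 h0 s (List.mem_range.2 hs)
  simp only [Bool.or_eq_true, List.any_eq_true, bne_iff_ne, ne_eq, beq_iff_eq] at h1
  rcases h1 with ⟨r, hr, h1⟩ | ⟨r, hr, h1⟩
  · exact absurd (h r hr) h1
  · exact ⟨r, hr, h1⟩

/-- `2 α_i = Σ ⟨α_i, a⟩ a` in terms of pairings -/
theorem tabS : ∀ i : Fin 7, ∀ j : Fin 7,
    (∑ k : Fin 7, prC chevE7 (fr k) (chevE7.simple i) * prC chevE7 (fr k) (chevE7.simple j)) =
      2 * chevE7.cartan i (chevE7.simple j) := by decide +kernel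

section Basic

variable {K : Type u} [Field K]

local notation "hD7" => e7T.inList

/-- the root `SL₂` of the frame -/
noncomputable def Ps (K : Type u) [Field K] (i : Fin 7) : Matrix.SpecialLinearGroup (Fin 2) K →* GL chevE7.Idx K :=
  psi e7T.inList K (fr i)

theorem Ps_comm {i j : Fin 7} (h : i ≠ j) (A B : Matrix.SpecialLinearGroup (Fin 2) K) :
    Ps K i A * Ps K j B = Ps K j B * Ps K i A := by
  have h1 := tabO_spec tabO_E7 (fr_mem i) (fr_mem j) fun e => h (fr_inj i j e)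
  exact psi_comm e7T.inList (fr_lt i) (fr_lt j) h1.1 h1.2 A B

theorem hS_neg_one : (hS (-1 : K) : Matrix.SpecialLinearGroup (Fin 2) K) = -1 := by
  apply Subtype.ext
  rw [coe_hS (neg_ne_zero.2 one_ne_zero)]
  ext i j
  fin_cases i <;> fin_cases j <;> simp [Matrix.SpecialLinearGroup.coe_neg]

theorem Ps_neg_one (i : Fin 7) : Ps K i (-1) = hG e7T.inList (fr i) (-1 : K) := by
  rw [← hS_neg_one]
  exact psi_hS e7T.inList (fr_lt i) _

theorem Ps_mem (i : Fin 7) (A : Matrix.SpecialLinearGroup (Fin 2) K) : Ps K i A ∈ chevE7.group K :=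
  psi_mem_group e7T.inList (fr_lt i) A

theorem chi_neg {t : GL chevE7.Idx K} (ht : t ∈ chevE7.diagonalSubgroup K) {s : ℕ} (hs : s < chevE7.nroots) :
    chi chevE7 K t (chevE7.neg s) = (chi chevE7 K t s)⁻¹ := by
  rw [chi_vec e7T ht (neg_lt e7T.inList hs), chi_vec e7T ht hs, ← Finset.prod_inv_distrib]
  refine Finset.prod_congr rfl fun j _ => ?_
  rw [vec_neg e7T hs, Pi.neg_apply, zpow_neg]

/-- `diag (c, 1)` -/
def dg (c : K) (hc : c ≠ 0) : GL (Fin 2) K :=
  Matrix.GeneralLinearGroup.mkOfDetNeZero !![c, 0; 0, 1] (by simpa using hc)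

theorem coe_dg (c : K) (hc : c ≠ 0) : ((dg c hc : GL (Fin 2) K) : Matrix (Fin 2) (Fin 2) K) = !![c, 0; 0, 1] := rfl

theorem tw_dg_up (c : K) (hc : c ≠ 0) (a : K) : tw (dg c hc) (up a) = up (c * a) := by
  apply Subtype.ext
  rw [coe_tw]
  have h : ((dg c hc : GL (Fin 2) K) : Matrix (Fin 2) (Fin 2) K) * ((up a : Matrix.SpecialLinearGroup (Fin 2) K) :
      Matrix (Fin 2) (Fin 2) K) = ((up (c * a) : Matrix.SpecialLinearGroup (Fin 2) K) : Matrix (Fin 2) (Fin 2) K) *
      ((dg c hc : GL (Fin 2) K) : Matrix (Fin 2) (Fin 2) K) := by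
    rw [coe_dg]
    show !![c, 0; 0, 1] * !![1, a; 0, 1] = !![1, c * a; 0, 1] * !![c, 0; 0, 1]
    ext i j
    fin_cases i <;> fin_cases j <;> simp [Matrix.mul_apply, Fin.sum_univ_two]
  rw [h, Matrix.mul_assoc, ← Units.val_mul, mul_inv_cancel, Units.val_one, Matrix.mul_one]

theorem tw_dg_lo (c : K) (hc : c ≠ 0) (a : K) : tw (dg c hc) (lo a) = lo (c⁻¹ * a) := by
  apply Subtype.ext
  rw [coe_tw]
  have h : ((dg c hc : GL (Fin 2) K) : Matrix (Fin 2) (Fin 2) K) * ((lo a : Matrix.SpecialLinearGroup (Fin 2) K) :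
      Matrix (Fin 2) (Fin 2) K) = ((lo (c⁻¹ * a) : Matrix.SpecialLinearGroup (Fin 2) K) :
      Matrix (Fin 2) (Fin 2) K) * ((dg c hc : GL (Fin 2) K) : Matrix (Fin 2) (Fin 2) K) := by
    rw [coe_dg]
    show !![c, 0; 0, 1] * !![1, 0; a, 1] = !![1, 0; c⁻¹ * a, 1] * !![c, 0; 0, 1]
    ext i j
    fin_cases i <;> fin_cases j <;> simp [Matrix.mul_apply, Fin.sum_univ_two]
    field_simp
  rw [h, Matrix.mul_assoc, ← Units.val_mul, mul_inv_cancel, Units.val_one, Matrix.mul_one]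

/-- **The torus acts on the factors.** -/
theorem tor_conj {t : GL chevE7.Idx K} (ht : t ∈ chevE7.diagonalSubgroup K) (i : Fin 7)
    (A : Matrix.SpecialLinearGroup (Fin 2) K) :
    t * Ps K i A * t⁻¹ = Ps K i (tw (dg (chi chevE7 K t (fr i)) (chi_ne_zero e7T.inList ht _)) A) := by
  have h3 : A ∈ MonoidHom.eqLocus ((MulAut.conj t).toMonoidHom.comp (Ps K i))
      ((Ps K i).comp (tw (dg (chi chevE7 K t (fr i)) (chi_ne_zero e7T.inList ht _)))) := by
    refine (Subgroup.closure_le _).2 ?_ (mem_closure_SL2 A)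
    rintro _ (⟨a, rfl⟩ | ⟨a, rfl⟩)
    · show t * Ps K i (up a) * t⁻¹ = Ps K i (tw _ (up a))
      rw [tw_dg_up, Ps, psi_up e7T.inList (fr_lt i), psi_up e7T.inList (fr_lt i), tor_conj_xG e7T.inList ht (fr_lt i)]
    · show t * Ps K i (lo a) * t⁻¹ = Ps K i (tw _ (lo a))
      rw [tw_dg_lo, Ps, psi_lo e7T.inList (fr_lt i), psi_lo e7T.inList (fr_lt i),
        tor_conj_xG e7T.inList ht (neg_lt e7T.inList (fr_lt i)), chi_neg ht (fr_lt i)]
  exact h3

/-- the product of the seven factors -/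
noncomputable def YG (K : Type u) [Field K] : Subgroup (GL chevE7.Idx K) := ⨆ i, (Ps K i).range

theorem Ps_mem_YG (i : Fin 7) (A : Matrix.SpecialLinearGroup (Fin 2) K) : Ps K i A ∈ YG K :=
  (le_iSup (fun i => (Ps K i).range) i) ⟨A, rfl⟩

theorem tor_norm_YG {t : GL chevE7.Idx K} (ht : t ∈ chevE7.diagonalSubgroup K) {y : GL chevE7.Idx K}
    (hy : y ∈ YG K) : t * y * t⁻¹ ∈ YG K := by
  have h1 : YG K ≤ (YG K).comap (MulAut.conj t).toMonoidHom := by
    refine iSup_le fun i => ?_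
    rintro _ ⟨A, rfl⟩
    show t * Ps K i A * t⁻¹ ∈ YG K
    rw [tor_conj ht]
    exact Ps_mem_YG i _
  exact h1 hy

/-- `Y T` -/
noncomputable def YT (K : Type u) [Field K] : Subgroup (GL chevE7.Idx K) where
  carrier := {g | ∃ y ∈ YG K, ∃ t ∈ chevE7.diagonalSubgroup K, g = y * t}
  one_mem' := ⟨1, one_mem _, 1, one_mem _, (mul_one _).symm⟩
  mul_mem' := by
    rintro _ _ ⟨y, hy, t, ht, rfl⟩ ⟨y', hy', t', ht', rfl⟩
    refine ⟨y * (t * y' * t⁻¹), mul_mem hy (tor_norm_YG ht hy'), t * t', mul_mem ht ht', ?_⟩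
    group
  inv_mem' := by
    rintro _ ⟨y, hy, t, ht, rfl⟩
    refine ⟨t⁻¹ * y⁻¹ * t⁻¹⁻¹, tor_norm_YG (inv_mem ht) (inv_mem hy), t⁻¹, inv_mem ht, ?_⟩
    group

theorem mem_YT {g : GL chevE7.Idx K} : g ∈ YT K ↔ ∃ y ∈ YG K, ∃ t ∈ chevE7.diagonalSubgroup K, g = y * t := Iff.rfl

theorem YG_le_YT : YG K ≤ YT K := fun y hy => ⟨y, hy, 1, one_mem _, (mul_one _).symm⟩

theorem tor_le_YT : chevE7.diagonalSubgroup K ≤ YT K := fun t ht => ⟨1, one_mem _, t, ht, (one_mul _).symm⟩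

/-- the group `D` -/
noncomputable def Zf (K : Type u) [Field K] : Subgroup (GL chevE7.Idx K) :=
  closure (Set.range fun i : Fin 7 => hG e7T.inList (fr i) (-1 : K))

theorem Zf_le : Zf K ≤ chevE7.diagonalSubgroup K := by
  refine (closure_le _).2 ?_
  rintro _ ⟨i, rfl⟩
  exact hG_mem e7T.inList (fr_lt i) (neg_ne_zero.2 one_ne_zero)

theorem hG_mem_Zf (i : Fin 7) : hG e7T.inList (fr i) (-1 : K) ∈ Zf K := subset_closure ⟨i, rfl⟩

theorem GS_le (h2 : (2 : K) ≠ 0) : GS chevE7 K (PsiZ chevE7 K (Zf K)) ≤ YT K := by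
  refine sup_le tor_le_YT (iSup₂_le fun s hs => ?_)
  obtain ⟨r, hr, h⟩ := tabP_spec hs.1 fun r hr => by
    obtain ⟨i, rfl⟩ := exists_fr r hr
    have h3 := hs.2 _ (hG_mem_Zf i)
    rw [chi_hG e7T.inList (fr_lt i) hs.1 (neg_ne_zero.2 one_ne_zero)] at h3
    exact neg_one_zpow_eq h2 h3
  obtain ⟨i, rfl⟩ := exists_fr r hr
  intro g hg
  obtain ⟨a, rfl⟩ := (mem_rootSubgroup_iff e7T.inList s g).1 hg
  apply YG_le_YT
  rcases h with h | h
  · have h3 := Ps_mem_YG (K := K) i (up a)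
    rw [Ps, psi_up e7T.inList (fr_lt i)] at h3
    rw [h]; exact h3
  · have h3 := Ps_mem_YG (K := K) i (lo a)
    rw [Ps, psi_lo e7T.inList (fr_lt i)] at h3
    rw [h]; exact h3

/-! ### the monomial part -/

theorem nG_mem_mono {r : ℕ} (hr : r < chevE7.nroots) : nG e7T.inList r (1 : K) ∈ chevE7.monomialSubgroup K :=
  Subgroup.mem_sup_right (subset_closure ⟨r, hr, coe_nG e7T.inList r 1⟩)

/-- the reflection of `fr i` as an element of `N` -/
noncomputable def nn' (K : Type u) [Field K] (i : Fin 7) : ↥(chevE7.monomialSubgroup K) :=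
  ⟨Ps K i (wS 1), by rw [Ps, psi_wS e7T.inList (fr_lt i)]; exact nG_mem_mono (fr_lt i)⟩

theorem perm_nn_ne {i j : Fin 7} (h : i ≠ j) :
    permHom e7T.inList K (nn' K i) ⟨fr j, fr_lt j⟩ = ⟨fr j, fr_lt j⟩ := by
  refine perm_fix e7T.inList (fr_lt j) (nn' K i).2 ?_
  have h1 := Ps_comm (K := K) h (wS 1) (up 1)
  rwa [Ps, Ps, psi_up e7T.inList (fr_lt j)] at h1

theorem wS_up (a : K) : (wS 1 * up a * (wS 1)⁻¹ : Matrix.SpecialLinearGroup (Fin 2) K) = lo (-a) := by
  rw [Cfsg.Agent.Nodes.RGDFoldSL.lo_eq, _root_.neg_neg]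

theorem perm_nn_self (i : Fin 7) :
    ((permHom e7T.inList K (nn' K i) ⟨fr i, fr_lt i⟩ : Fin chevE7.nroots) : ℕ) = chevE7.neg (fr i) := by
  obtain ⟨c, hc0, hc⟩ := conj_xG e7T.inList (nn' K i) ⟨fr i, fr_lt i⟩
  have h1 := hc 1
  have h3 : (nn' K i : GL chevE7.Idx K) * xG e7T.inList (fr i) 1 * (nn' K i : GL chevE7.Idx K)⁻¹ =
      xG e7T.inList (chevE7.neg (fr i)) (-1) := by
    have h4 : Ps K i (wS 1 * up 1 * (wS 1)⁻¹) = Ps K i (lo (-1)) := by rw [wS_up]
    rw [map_mul, map_mul, map_inv] at h4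
    rw [Ps, psi_up e7T.inList (fr_lt i), psi_lo e7T.inList (fr_lt i)] at h4
    exact h4
  simp only at h1
  rw [h3, mul_one] at h1
  by_contra hne
  have h5 := xG_disj e7T.inList (Fin.is_lt _) (neg_lt e7T.inList (fr_lt i)) (fun h => hne h.symm) h1.symm
  exact hc0 h5

theorem fin_mk_val {n a : ℕ} (h : a < n) : ((⟨a, h⟩ : Fin n) : ℕ) = a := rfl

/-- `- fr i` -/
def ng (i : Fin 7) : Fin chevE7.nroots := ⟨chevE7.neg (fr i), neg_lt e7T.inList (fr_lt i)⟩

theorem ng_def (i : Fin 7) : ng i = ⟨chevE7.neg (fr i), neg_lt e7T.inList (fr_lt i)⟩ := by unfold ng; rfl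

theorem ng_val (i : Fin 7) : ((ng i : Fin chevE7.nroots) : ℕ) = chevE7.neg (fr i) := by
  rw [ng_def]

/-- the product of the reflections of a list -/
noncomputable def nL (K : Type u) [Field K] (L : List (Fin 7)) : ↥(chevE7.monomialSubgroup K) :=
  (L.map fun i => nn' K i).prod

theorem perm_nL_not {L : List (Fin 7)} {j : Fin 7} (hj : j ∉ L) :
    permHom e7T.inList K (nL K L) ⟨fr j, fr_lt j⟩ = ⟨fr j, fr_lt j⟩ := by
  induction L with
  | nil =>
    show permHom e7T.inList K 1 ⟨fr j, fr_lt j⟩ = ⟨fr j, fr_lt j⟩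
    rw [map_one]; rfl
  | cons i L ih =>
    have h1 : nL K (i :: L) = nn' K i * nL K L := by
      unfold nL; rw [List.map_cons, List.prod_cons]
    rw [h1, map_mul, Equiv.Perm.mul_apply, ih (fun h => hj (List.mem_cons_of_mem _ h))]
    exact perm_nn_ne fun h => hj (by rw [← h]; exact List.mem_cons_self)

theorem perm_nL_mem {L : List (Fin 7)} (hL : L.Nodup) {j : Fin 7} (hj : j ∈ L) :
    ((permHom e7T.inList K (nL K L) ⟨fr j, fr_lt j⟩ : Fin chevE7.nroots) : ℕ) = chevE7.neg (fr j) := by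
  induction L with
  | nil => exact absurd hj List.not_mem_nil
  | cons i L ih =>
    have h1 : nL K (i :: L) = nn' K i * nL K L := by
      unfold nL; rw [List.map_cons, List.prod_cons]
    rw [h1, map_mul, Equiv.Perm.mul_apply]
    rw [List.nodup_cons] at hL
    rcases List.mem_cons.1 hj with rfl | hj'
    · rw [perm_nL_not hL.1]
      exact perm_nn_self j
    · have h3 : permHom e7T.inList K (nL K L) ⟨fr j, fr_lt j⟩ = ng j :=
        Fin.ext ((ih hL.2 hj').trans (ng_val j).symm)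
      rw [h3, ng_def, perm_neg e7T.inList _ (fr_lt j), perm_nn_ne fun h => hL.1 (by rw [h]; exact hj')]

theorem nL_mem (L : List (Fin 7)) : (nL K L : GL chevE7.Idx K) ∈ YG K := by
  induction L with
  | nil => exact one_mem _
  | cons i L ih =>
    have h1 : nL K (i :: L) = nn' K i * nL K L := by
      unfold nL; rw [List.map_cons, List.prod_cons]
    rw [h1]
    exact mul_mem (Ps_mem_YG i _) ih

/-- the monomial elements commuting with `D` -/
theorem mono_mem [Finite K] (h2 : (2 : K) ≠ 0) {k : GL chevE7.Idx K} (hk : k ∈ chevE7.monomialSubgroup K)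
    (hc : ∀ i, k * hG e7T.inList (fr i) (-1 : K) = hG e7T.inList (fr i) (-1 : K) * k) : k ∈ YT K := by
  classical
  have hD := e7T.inList
  have h1 : ∀ i, ((permHom e7T.inList K ⟨k, hk⟩ ⟨fr i, fr_lt i⟩ : Fin chevE7.nroots) : ℕ) = fr i ∨
      ((permHom e7T.inList K ⟨k, hk⟩ ⟨fr i, fr_lt i⟩ : Fin chevE7.nroots) : ℕ) = chevE7.neg (fr i) := fun i =>
    perm_of_comm e7T.inList h2 (fr_lt i) (tabB_E7 _ (fr_mem i)) ⟨k, hk⟩ (hc i)
  let L : List (Fin 7) := (List.finRange 7).filter fun i =>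
    decide (((permHom e7T.inList K ⟨k, hk⟩ ⟨fr i, fr_lt i⟩ : Fin chevE7.nroots) : ℕ) = chevE7.neg (fr i))
  have hLn : L.Nodup := (List.nodup_finRange 7).filter _
  have hfix : permHom e7T.inList K (⟨k, hk⟩ * nL K L) = 1 := by
    refine fix_of_tabR e7T lt_E7 tabR_E7 _ fun r hr => ?_
    obtain ⟨i, rfl⟩ := exists_fr r hr
    rw [map_mul, Equiv.Perm.mul_apply]
    by_cases hi : i ∈ L
    · have h3 : permHom e7T.inList K (nL K L) ⟨fr i, fr_lt i⟩ = ng i :=
        Fin.ext ((perm_nL_mem hLn hi).trans (ng_val i).symm)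
      rw [h3, ng_def]
      apply Fin.ext
      rw [perm_neg e7T.inList _ (fr_lt i)]
      have h4 := of_decide_eq_true (List.mem_filter.1 hi).2
      rw [h4]
      exact neg_neg_eq' e7T.inList (fr_lt i)
    · rw [perm_nL_not hi]
      apply Fin.ext
      refine (h1 i).resolve_right fun h => hi (List.mem_filter.2 ⟨List.mem_finRange i, decide_eq_true h⟩)
  have hT : k * (nL K L : GL chevE7.Idx K) ∈ chevE7.diagonalSubgroup K := by
    have h3 : (⟨k, hk⟩ * nL K L : ↥(chevE7.monomialSubgroup K)) ∈ (permHom e7T.inList K).ker := hfix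
    rw [ker_permHom e7T.inList K] at h3
    exact h3
  have h5 : k = k * (nL K L : GL chevE7.Idx K) * (nL K L : GL chevE7.Idx K)⁻¹ := by group
  rw [h5]
  exact mul_mem (tor_le_YT hT) (inv_mem (YG_le_YT (nL_mem L)))

/-- **The centralizer of `D`.** -/
theorem cent_mem [Finite K] (h2 : (2 : K) ≠ 0) {g : GL chevE7.Idx K} (hg : g ∈ chevE7.group K)
    (hc : ∀ i, g * hG e7T.inList (fr i) (-1 : K) = hG e7T.inList (fr i) (-1 : K) * g) : g ∈ YT K := by
  have hc' : g ∈ centralizer (Zf K : Set (GL chevE7.Idx K)) := by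
    rw [mem_centralizer_iff]
    intro x hx
    have h1 : Zf K ≤ centralizer {g} := by
      refine (closure_le _).2 ?_
      rintro _ ⟨i, rfl⟩
      rw [SetLike.mem_coe, mem_centralizer_singleton_iff]
      exact (hc i).symm
    exact mem_centralizer_singleton_iff.1 (h1 hx)
  obtain ⟨u, hu, k, hk, hkc, v, hv, rfl⟩ := cent_form e7T.inList Zf_le hg hc'
  refine mul_mem (mul_mem (GS_le h2 hu) (mono_mem h2 hk fun i => ?_)) (GS_le h2 hv)
  exact (mem_centralizer_iff.1 hkc _ (hG_mem_Zf i)).symm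

/-! ### the torus -/

theorem hG_mem_YG (i : Fin 7) (c : K) : hG e7T.inList (fr i) c ∈ YG K := by
  have h := Ps_mem_YG (K := K) i (hS c)
  rwa [Ps, psi_hS e7T.inList (fr_lt i)] at h

/-- **`t² ∈ Y`** -/
theorem tor_sq {t : GL chevE7.Idx K} (ht : t ∈ chevE7.diagonalSubgroup K) : t * t ∈ YG K := by
  obtain ⟨c, hc, e, -⟩ := tor_data e7T.inList ht
  have hr : chevE7.rank = 7 := by decide
  -- the values
  have hchi : ∀ j : Fin 7, chi chevE7 K t (chevE7.simple j) = ∏ i : Fin 7, c i ^ chevE7.cartan i (chevE7.simple j) := by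
    intro j
    have hs := simple_lt e7T.inList (lt_rank e7T j)
    rw [chi, dif_pos hs, e, Matrix.diagonal_apply_eq, Sum.elim_inr, hr,
      ← Fin.prod_univ_eq_prod_range (fun i => c i ^ chevE7.cartan i (chevE7.simple j))]
  have hc' : ∀ i : Fin 7, c i ≠ 0 := fun i => hc i (lt_rank e7T i)
  let d : Fin 7 → K := fun k => ∏ i : Fin 7, c i ^ prC chevE7 (fr k) (chevE7.simple i)
  have hd : ∀ k, d k ≠ 0 := fun k => Finset.prod_ne_zero_iff.2 fun i _ => zpow_ne_zero _ (hc' i)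
  have hL : ∀ L : List (Fin 7), (L.map fun k : Fin 7 => hG e7T.inList (fr k) (d k)).prod ∈ YG K ∧
      (L.map fun k : Fin 7 => hG e7T.inList (fr k) (d k)).prod ∈ chevE7.diagonalSubgroup K ∧
      ∀ s < chevE7.nroots, chi chevE7 K (L.map fun k : Fin 7 => hG e7T.inList (fr k) (d k)).prod s =
        (L.map fun k => d k ^ prC chevE7 (fr k) s).prod := by
    intro L
    induction L with
    | nil => exact ⟨one_mem _, one_mem _, fun s _ => chi_one s⟩
    | cons k L ih =>
      obtain ⟨ih1, ih2, ih3⟩ := ih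
      simp only [List.map_cons, List.prod_cons]
      refine ⟨mul_mem (hG_mem_YG k _) ih1, mul_mem (hG_mem e7T.inList (fr_lt k) (hd k)) ih2, fun s hs => ?_⟩
      rw [chi_mul e7T.inList (hG_mem e7T.inList (fr_lt k) (hd k)) ih2, ih3 s hs,
        chi_hG e7T.inList (fr_lt k) hs (hd k), pr_eq]
  obtain ⟨hw, hwT, hwc⟩ := hL (List.finRange 7)
  have e2 : t * t = ((List.finRange 7).map fun k : Fin 7 => hG e7T.inList (fr k) (d k)).prod := by
    refine tor_ext e7T (mul_mem ht ht) hwT fun j => ?_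
    rw [chi_mul e7T.inList ht ht, hwc _ (simple_lt e7T.inList (lt_rank e7T j)), hchi j, ← Fin.prod_univ_def]
    have h1 : ∀ k : Fin 7, d k ^ prC chevE7 (fr k) (chevE7.simple j) =
        ∏ i : Fin 7, c i ^ (prC chevE7 (fr k) (chevE7.simple i) * prC chevE7 (fr k) (chevE7.simple j)) := by
      intro k
      rw [← Finset.prod_zpow]
      exact Finset.prod_congr rfl fun i _ => by rw [← zpow_mul]
    rw [Finset.prod_congr rfl fun k _ => h1 k, Finset.prod_comm, ← Finset.prod_mul_distrib]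
    refine Finset.prod_congr rfl fun i _ => ?_
    rw [prod_zpow _ _ (hc' i), tabS i j, two_mul, zpow_add₀ (hc' i)]
  rw [e2]
  exact hw

/-- the elements of `Y` act on the factors as inner automorphisms -/
theorem inner_YG {y : GL chevE7.Idx K} (hy : y ∈ YG K) (k : Fin 7) :
    ∃ B : Matrix.SpecialLinearGroup (Fin 2) K, ∀ A, y * Ps K k A * y⁻¹ = Ps K k (B * A * B⁻¹) := by
  let S : Subgroup (GL chevE7.Idx K) :=
    { carrier := {y | ∃ B : Matrix.SpecialLinearGroup (Fin 2) K, ∀ A, y * Ps K k A * y⁻¹ = Ps K k (B * A * B⁻¹)}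
      one_mem' := ⟨1, fun A => by simp⟩
      mul_mem' := by
        rintro y y' ⟨B, hB⟩ ⟨B', hB'⟩
        refine ⟨B * B', fun A => ?_⟩
        have e : y * y' * Ps K k A * (y * y')⁻¹ = y * (y' * Ps K k A * y'⁻¹) * y⁻¹ := by group
        rw [e, hB', hB]
        congr 1
        group
      inv_mem' := by
        rintro y ⟨B, hB⟩
        refine ⟨B⁻¹, fun A => ?_⟩
        have e := hB (B⁻¹ * A * B⁻¹⁻¹)
        have e2 : B * (B⁻¹ * A * B⁻¹⁻¹) * B⁻¹ = A := by group
        rw [e2] at e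
        rw [← e]
        group }
  have h1 : YG K ≤ S := by
    refine iSup_le fun i => ?_
    rintro _ ⟨A, rfl⟩
    by_cases hi : i = k
    · subst hi
      exact ⟨A, fun A' => by rw [map_mul, map_mul, map_inv]⟩
    · refine ⟨1, fun A' => ?_⟩
      rw [Ps_comm hi, mul_inv_cancel_right, one_mul, inv_one, mul_one]
  exact h1 hy

/-- every element of `Y T` acts on the factors through `GL₂` -/
theorem tw_YT {g : GL chevE7.Idx K} (hg : g ∈ YT K) (k : Fin 7) :
    ∃ δ : GL (Fin 2) K, ∀ A, g * Ps K k A * g⁻¹ = Ps K k (tw δ A) := by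
  obtain ⟨y, hy, t, ht, rfl⟩ := hg
  obtain ⟨B, hB⟩ := inner_YG hy k
  refine ⟨Matrix.SpecialLinearGroup.toGL B * dg (chi chevE7 K t (fr k)) (chi_ne_zero e7T.inList ht _), fun A => ?_⟩
  have e : y * t * Ps K k A * (y * t)⁻¹ = y * (t * Ps K k A * t⁻¹) * y⁻¹ := by group
  rw [e, tor_conj ht, hB, tw_mul, tw_toGL]

/-- squares -/
theorem sq_YT {g : GL chevE7.Idx K} (hg : g ∈ YT K) : g * g ∈ YG K := by
  obtain ⟨y, hy, t, ht, rfl⟩ := hg
  have e : y * t * (y * t) = y * (t * y * t⁻¹) * (t * t) := by group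
  rw [e]
  exact mul_mem (mul_mem hy (tor_norm_YG ht hy)) (tor_sq ht)

end Basic

section Inj

variable {K : Type u} [Field K] [Fintype K]

theorem ringChar_ne (h2 : (2 : K) ≠ 0) : ringChar K ≠ 2 := by
  intro h
  apply h2
  have h1 : CharP K 2 := by rw [← h]; exact ringChar.charP K
  exact_mod_cast CharP.cast_eq_zero K 2

theorem up_eq (b : K) : (up b : Matrix.SpecialLinearGroup (Fin 2) K) = Cfsg.Agent.H984.SLTwo.upp 1 b := by
  classical
  apply Subtype.ext
  rw [Cfsg.Agent.H984.SLTwo.coe_upp]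
  show !![1, b; 0, 1] = _
  simp

/-- **the homomorphisms are injective** (also for three elements) -/
theorem Ps_inj (h2 : (2 : K) ≠ 0) (i : Fin 7) : Function.Injective (Ps K i) := by
  classical
  obtain ⟨j, hj⟩ := tabZ_spec e7T tabZ_E7 (fr_mem i)
  by_cases h4 : 4 ≤ Nat.card K
  · exact psi_injective e7T.inList h2 h4 (fr_lt i) (simple_lt e7T.inList (lt_rank e7T j)) hj
  · have hc : Fintype.card K = 3 := by
      have h1 := FiniteField.odd_card_of_char_ne_two (ringChar_ne h2)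
      have h3 := Fintype.one_lt_card (α := K)
      rw [Nat.card_eq_fintype_card] at h4
      omega
    have hch : CharP K 3 := by
      obtain ⟨p, hp⟩ := CharP.exists K
      have : Fact p.Prime := ⟨CharP.char_is_prime K p⟩
      obtain ⟨n, hp', hn⟩ := FiniteField.card K p
      rw [hc] at hn
      have h5 : p ∣ 3 := by rw [hn]; exact dvd_pow_self p n.ne_zero
      have h6 : p = 3 := (Nat.prime_dvd_prime_iff_eq hp' Nat.prime_three).1 h5
      rw [← h6]; exact hp
    have : Fact (Nat.Prime 3) := ⟨Nat.prime_three⟩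
    rw [← MonoidHom.ker_eq_bot_iff, eq_bot_iff]
    intro A hA
    rw [Subgroup.mem_bot]
    by_contra hne
    have hfin : IsOfFinOrder A := isOfFinOrder_of_finite A
    obtain ⟨l, hl, hlA⟩ := Nat.exists_prime_and_dvd (n := orderOf A) (fun h => hne (orderOf_eq_one_iff.1 h))
    -- an element of order `l` of the kernel
    have hB : orderOf (A ^ (orderOf A / l)) = l := orderOf_pow_orderOf_div hfin.orderOf_pos.ne' hlA
    set B := A ^ (orderOf A / l) with hBdef
    have hBk : B ∈ (Ps K i).ker := pow_mem hA _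
    have hl24 : l ∣ 24 := by
      have h5 : orderOf B ∣ Nat.card (Matrix.SpecialLinearGroup (Fin 2) K) := orderOf_dvd_natCard B
      rw [Cfsg.Agent.H984.SLTwo.card_SL, hc, hB] at h5
      exact h5
    have hl23 : l = 2 ∨ l = 3 := by
      have h5 : l ∣ 2 ^ 3 * 3 := by simpa using hl24
      rcases (Nat.Prime.dvd_mul hl).1 h5 with h | h
      · exact Or.inl ((Nat.prime_dvd_prime_iff_eq hl Nat.prime_two).1 (hl.dvd_of_dvd_pow h))
      · exact Or.inr ((Nat.prime_dvd_prime_iff_eq hl Nat.prime_three).1 h)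
    rcases hl23 with rfl | rfl
    · have h5 : B * B = 1 := by
        have h9 := pow_orderOf_eq_one B
        rwa [hB, sq] at h9
      have h6 : B ≠ 1 := by
        intro h
        rw [h, orderOf_one] at hB
        omega
      have h7 := eq_hS h2 h5 h6
      rw [h7, MonoidHom.mem_ker, Ps, psi_hS e7T.inList (fr_lt i)] at hBk
      have h8 := chi_hG e7T.inList (fr_lt i) (simple_lt e7T.inList (lt_rank e7T j)) (c := (-1 : K))
        (neg_ne_zero.2 one_ne_zero)
      rw [hBk, chi_one] at h8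
      exact hj (neg_one_zpow_eq h2 h8.symm)
    · obtain ⟨h5, h6⟩ := Cfsg.Agent.H984.SLTwo.of_orderOf 3 hB
      obtain ⟨b, hb, hBb⟩ := Cfsg.Agent.H984.SLTwo.exists_conj_upp h5 h6
      obtain ⟨X, hX⟩ := isConj_iff.1 hBb
      have h7 : (up b : Matrix.SpecialLinearGroup (Fin 2) K) ∈ (Ps K i).ker := by
        rw [up_eq, ← hX]
        exact (inferInstance : (Ps K i).ker.Normal).conj_mem B hBk X
      rw [MonoidHom.mem_ker, Ps, psi_up e7T.inList (fr_lt i), ← xG_zero e7T.inList (fr i)] at h7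
      exact hb (xG_injective e7T.inList (fr_lt i) h7)

theorem one_lt_nroots : 1 < chevE7.nroots := by decide

/-- **an element of the torus outside `Y`** -/
theorem exists_tor (h2 : (2 : K) ≠ 0) : ∃ t ∈ chevE7.diagonalSubgroup K, t ∉ YG K := by
  classical
  obtain ⟨c, hc⟩ := FiniteField.exists_nonsquare (ringChar_ne h2)
  have hc0 : c ≠ 0 := by
    rintro rfl
    exact hc (IsSquare.zero)
  have ht := hG_mem (K := K) e7T.inList one_lt_nroots hc0
  refine ⟨_, ht, fun hy => ?_⟩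
  have hchi : chi chevE7 K (hG e7T.inList 1 c) (fr 0) = c := by
    rw [chi_hG e7T.inList one_lt_nroots (fr_lt 0) hc0, pr_eq]
    have h1 : prC chevE7 1 (fr 0) = 1 := by decide +kernel
    rw [h1, zpow_one]
  obtain ⟨B, hB⟩ := inner_YG hy 0
  have h3 := hB (up 1)
  rw [tor_conj ht] at h3
  have h4 := Ps_inj h2 0 h3
  rw [tw_dg_up, mul_one, hchi, up_eq, up_eq] at h4
  have h5 : IsConj (Cfsg.Agent.H984.SLTwo.upp 1 (1 : K)) (Cfsg.Agent.H984.SLTwo.upp 1 c) :=
    isConj_iff.2 ⟨B, h4.symm⟩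
  rw [Cfsg.Agent.H984.SLTwo.isConj_upp_iff one_ne_zero hc0, one_mul] at h5
  exact hc h5

end Inj

end Cfsg.Agent.H425.KKL
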